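import Cfsg.Agent.Lib.KGroups.PSpFourThree.Dict

/-!
# The centraliser of `eM` in the group of order 576
-/

set_option autoImplicit false
set_option maxRecDepth 40000

namespace CfsgLib.KGroups.PSpFourThree

/-- The codes of the conjugates of the central involution commuting with `eM`. -/
def isFive (x : ℕ) : Bool :=
  Nat.beq x 9 || Nat.beq x 72 || Nat.beq x 387 || Nat.beq x 485 || Nat.beq x 575

/-- Sixteenth power. -/
def pow16 (x : ℕ) : ℕ :=
  mulN (mulN (mulN (mulN x x) (mulN x x)) (mulN (mulN x x) (mulN x x)))
    (mulN (mulN (mulN x x) (mulN x x)) (mulN (mulN x x) (mulN x x)))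

theorem five_check : All576 fun x => (Nat.beq x 9 || inMask maskA x) == false || !commC x 162 || isFive x := by
  decide +kernel

theorem five_check_b : All576 fun x => (Nat.beq x 9 || inMask maskA x) == false || !commC x 81 || isFive x := by
  decide +kernel

theorem five_mem : All576 fun x => !isFive x ||
    ((Nat.beq x 9 || inMask maskA x) && commC x 162 && commC x 81 && commC x 485 &&
      (List.range 576).all fun y => !isFive y || commC x y) := by decide +kernel

theorem five_count : ((List.range 576).filter fun x => isFive x).length = 5 := by decide +kernel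

theorem centre_check : All576 fun x => !commC x 162 ||
    ((List.range 576).any fun y => commC y 162 && !commC x y) ||
    !(Nat.beq x 9 || inMask maskA x) || Nat.beq x 9 := by decide +kernel

theorem abel_check : All576 fun q => !commC q 81 || Nat.beq (pow16 q) 0 ||
    (List.range 576).any fun k => commC k 81 &&
      !Nat.beq (commutC q (conjC k q)) 0 && !Nat.beq (commutC q (conjC k q)) 81 := by decide +kernel

theorem pow_two_check : All576 fun q => !commC q 162 || Nat.beq (pow16 q) 0 := by decide +kernel

theorem cent_special :
    commC 485 162 = true ∧ mulN 485 162 = 575 ∧ mulN 9 485 = 476 ∧ inMask maskB 476 = true ∧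
    commC 4 81 = true ∧ commC 8 81 = true ∧ commC 0 81 = true ∧ conjC 4 387 = 485 ∧ conjC 8 387 = 575 ∧
    commC 23 476 = true ∧ commC 60 476 = true ∧ commC 18 162 = true ∧ conjC 18 485 = 575 ∧
    mulN (mulN 162 (conjC 23 162)) (conjC 60 162) = 9 ∧ mulN 9 81 = 72 ∧ mulN 81 81 = 0 ∧
    mulN 72 81 = 9 := by decide +kernel

end CfsgLib.KGroups.PSpFourThree
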