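import Cfsg.Agent.Lib.KGroups.PSpFourThree.Fusion
import Cfsg.Agent.Lib.KGroups.PSpFourThree.CentFacts

/-!
# The centraliser of an involution of the second class
-/

set_option autoImplicit false
set_option maxRecDepth 40000
set_option linter.unusedSectionVars false
set_option linter.style.haveILetI false

namespace CfsgLib.KGroups.PSpFourThree

open C576 Subgroup CfsgLib.Involution.Dihedral

attribute [local irreducible] mulN invN commC inMask conjC commutC pow16 isFive

namespace C576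

/-- An involution of the class of `aM` with `a1M * eM` in the same class. -/
def a1M : C576 := ⟨485⟩
/-- The product of `a1M` and `eM`. -/
def a2M : C576 := ⟨575⟩
/-- The product of `zM` and `a1M`. -/
def fM : C576 := ⟨476⟩

theorem code_a1M : a1M.code.val = 485 := rfl
theorem code_a2M : a2M.code.val = 575 := rfl
theorem code_fM : fM.code.val = 476 := rfl

theorem tmask_iff {x : C576} :
    (x = zM ∨ IsConj aM x) ↔ (Nat.beq x.code.val 9 || inMask maskA x.code.val) = true := by
  simp only [Bool.or_eq_true, Nat.beq_eq, ← isConj_a, C576.eq_iff, code_zM]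

/-- The five conjugates of the central involution commuting with `eM`. -/
def Five (x : C576) : Prop := isFive x.code.val = true

theorem five_facts {x : C576} (hx : Five x) :
    (x = zM ∨ IsConj aM x) ∧ Commute x eM ∧ Commute x bM ∧ Commute x a1M ∧ ∀ y, Five y → Commute x y := by
  have h := test five_mem x
  rw [show isFive x.code.val = true from hx] at h
  simp only [Bool.not_true, Bool.false_or, Bool.and_eq_true] at h
  obtain ⟨⟨⟨⟨h1, h2⟩, h3⟩, h4⟩, h5⟩ := h
  refine ⟨tmask_iff.2 h1, commute_iff.2 h2, commute_iff.2 h3, commute_iff.2 h4, fun y hy => ?_⟩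
  have h' := test_range h5 y
  rw [show isFive y.code.val = true from hy] at h'
  exact commute_iff.2 (by simpa using h')

theorem five_of_e {x : C576} (h : x = zM ∨ IsConj aM x) (hc : Commute x eM) : Five x := by
  have h' := test five_check x
  rw [tmask_iff.1 h, show commC x.code.val 162 = true from code_eM ▸ commute_iff.1 hc] at h'
  simpa [Five] using h'

theorem five_of_b {x : C576} (h : x = zM ∨ IsConj aM x) (hc : Commute x bM) : Five x := by
  have h' := test five_check_b x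
  rw [tmask_iff.1 h, show commC x.code.val 81 = true from code_bM ▸ commute_iff.1 hc] at h'
  simpa [Five] using h'

theorem card_five : Nat.card {x : C576 // Five x} = 5 :=
  (card_filter_code fun x => isFive x).trans five_count

theorem cent_rel : Commute a1M eM ∧ a1M * eM = a2M ∧ zM * a1M = fM ∧ IsConj bM fM ∧
    Commute (⟨23⟩ : C576) fM ∧ Commute (⟨60⟩ : C576) fM ∧
    zM = eM * ((⟨23⟩ : C576) * eM * (⟨23⟩ : C576)⁻¹) * ((⟨60⟩ : C576) * eM * (⟨60⟩ : C576)⁻¹) ∧
    zM * bM = aM ∧ bM * bM = 1 ∧ aM * bM = zM ∧ Five zM ∧ Five a1M ∧ Five a2M := by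
  refine ⟨commute_iff.2 ?_, C576.eq_iff.2 ?_, C576.eq_iff.2 ?_, isConj_b.2 ?_, commute_iff.2 ?_,
    commute_iff.2 ?_, C576.eq_iff.2 ?_, C576.eq_iff.2 ?_, C576.eq_iff.2 ?_, C576.eq_iff.2 ?_, ?_, ?_, ?_⟩
  · exact cent_special.1
  · exact cent_special.2.1
  · exact cent_special.2.2.1
  · exact cent_special.2.2.2.1
  · exact cent_special.2.2.2.2.2.2.2.2.2.1
  · exact cent_special.2.2.2.2.2.2.2.2.2.2.1
  · rw [code_mul, code_mul, code_conj, code_conj]
    exact cent_special.2.2.2.2.2.2.2.2.2.2.2.2.2.1.symm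
  · exact cent_special.2.2.2.2.2.2.2.2.2.2.2.2.2.2.1
  · exact cent_special.2.2.2.2.2.2.2.2.2.2.2.2.2.2.2.1
  · exact cent_special.2.2.2.2.2.2.2.2.2.2.2.2.2.2.2.2
  all_goals (rw [Five]; decide +kernel)

theorem pow16_eq (x : C576) : (x ^ 16).code.val = pow16 x.code.val := by
  rw [show x ^ 16 = x * x * (x * x) * (x * x * (x * x)) * (x * x * (x * x) * (x * x * (x * x))) by
    simp only [pow_succ, pow_zero, one_mul, mul_assoc]]
  simp only [code_mul, pow16]

theorem pow16_of_cent_e {q : C576} (hq : Commute q eM) : q ^ 16 = 1 := by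
  have h := test pow_two_check q
  rw [show commC q.code.val 162 = true from code_eM ▸ commute_iff.1 hq] at h
  simp only [Bool.not_true, Bool.false_or, Nat.beq_eq] at h
  exact C576.eq_iff.2 (by rw [pow16_eq, h, code_one])

theorem pow16_of_cent_b {q : C576} (hq : Commute q bM)
    (hk : ∀ k, Commute k bM → q⁻¹ * (k * q * k⁻¹)⁻¹ * (q * (k * q * k⁻¹)) = 1 ∨
      q⁻¹ * (k * q * k⁻¹)⁻¹ * (q * (k * q * k⁻¹)) = bM) : q ^ 16 = 1 := by
  have h := test abel_check q
  rw [show commC q.code.val 81 = true from code_bM ▸ commute_iff.1 hq] at h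
  simp only [Bool.not_true, Bool.false_or, Bool.or_eq_true, Nat.beq_eq] at h
  rcases h with h | h
  · exact C576.eq_iff.2 (by rw [pow16_eq, h, code_one])
  · obtain ⟨k, hk'⟩ := exists_of_any h
    simp only [Bool.and_eq_true, Bool.not_eq_true'] at hk'
    have hc : Commute k bM := commute_iff.2 (code_bM ▸ hk'.1.1)
    rcases hk k hc with e | e <;> rw [C576.eq_iff, code_commutator, code_conj] at e
    · rw [e, code_one] at hk'; simp at hk'
    · rw [e, code_bM] at hk'; simp at hk'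

end C576

/-- The conclusion of the fusion analysis. -/
structure Fused {G : Type*} [Group G] (S : Emb G) : Prop where
  conj_a : IsConj S.t (S.hom aM)
  conj_eb : IsConj (S.hom eM) (S.hom bM)
  not_te : ¬ IsConj S.t (S.hom eM)

namespace Emb

variable {G : Type*} [Group G] [Finite G] (S : Emb G)

/-- The representative of the second class. -/
def B : G := S.hom eM

/-- Its centraliser. -/
def cW : Subgroup G := centralizer ({S.B} : Set G)

theorem mem_cW {x : G} : x ∈ S.cW ↔ Commute x S.B := mem_centralizer_singleton_iff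

theorem orderOf_B : orderOf S.B = 2 := by rw [B, S.orderOf_hom, orders.2.2.2]

/-- An element of the intersection of the two centralisers, in the centraliser of `B`. -/
def inW (q : C576) (hq : Commute q eM) : S.cW := ⟨S.hom q, S.mem_cW.2 (hq.map S.hom)⟩

theorem hom_mem_cW {q : C576} (hq : Commute q eM) : S.hom q ∈ S.cW := S.mem_cW.2 (hq.map S.hom)

theorem mem_cE {x : G} (hx : x ∈ S.cW) (ht : Commute x S.t) : ∃ q, Commute q eM ∧ S.hom q = x := by
  obtain ⟨q, rfl⟩ := S.exists_pre ht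
  exact ⟨q, S.commute_hom_iff.1 (S.mem_cW.1 hx), rfl⟩

theorem orderOf_conj_eq {x y : G} (h : IsConj x y) : orderOf y = orderOf x := by
  obtain ⟨g, rfl⟩ := isConj_iff.1 h
  rw [orderOf_conj]

/-- The element `B` in its centraliser. -/
def Bw : S.cW := ⟨S.B, S.mem_cW.2 (Commute.refl _)⟩

/-- The central subgroup of order two. -/
def zB : Subgroup S.cW := Subgroup.zpowers S.Bw

instance zB_normal : (S.zB).Normal := ⟨fun x hx g => by
  obtain ⟨k, rfl⟩ := Subgroup.mem_zpowers_iff.1 hx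
  have hc : Commute g S.Bw := Subtype.ext (S.mem_cW.1 g.2)
  rw [(hc.zpow_right k).eq, mul_inv_cancel_right]
  exact zpow_mem (Subgroup.mem_zpowers _) k⟩

/-- The projection. -/
def qW : S.cW →* S.cW ⧸ S.zB := QuotientGroup.mk' S.zB

theorem mem_zB {v : S.cW} : v ∈ S.zB ↔ v = 1 ∨ (v : G) = S.B := by
  constructor
  · intro h
    obtain ⟨k, rfl⟩ := Subgroup.mem_zpowers_iff.1 h
    have h2 : S.Bw * S.Bw = 1 := Subtype.ext (mul_self S.orderOf_B)
    rcases Int.even_or_odd k with ⟨i, rfl⟩ | ⟨i, rfl⟩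
    · exact Or.inl (by rw [← two_mul, zpow_mul, zpow_two, h2, one_zpow])
    · exact Or.inr (by rw [zpow_add_one, zpow_mul, zpow_two, h2, one_zpow, one_mul]; rfl)
  · rintro (rfl | h)
    · exact one_mem _
    · rw [show v = S.Bw from Subtype.ext h]; exact Subgroup.mem_zpowers _

theorem qW_eq_one {v : S.cW} : S.qW v = 1 ↔ v = 1 ∨ (v : G) = S.B :=
  (QuotientGroup.eq_one_iff v).trans S.mem_zB

theorem qW_eq_iff {v w : S.cW} : S.qW v = S.qW w ↔ (v : G) = w ∨ (v : G) = w * S.B := by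
  constructor
  · intro h
    rcases S.qW_eq_one.1 (show S.qW (w⁻¹ * v) = 1 by rw [map_mul, map_inv, h, inv_mul_cancel]) with e | e
    · exact Or.inl (congrArg Subtype.val (inv_mul_eq_one.1 e).symm)
    · exact Or.inr (by rw [← e]; simp)
  · intro h
    have e : S.qW (w⁻¹ * v) = 1 := S.qW_eq_one.2 (by
      rcases h with h | h
      · exact Or.inl (inv_mul_eq_one.2 (Subtype.ext h.symm))
      · exact Or.inr (by simp [h]))
    rw [map_mul, map_inv, inv_mul_eq_one] at e
    exact e.symm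

variable (hF : Fused S)
include hF

theorem not_t_b : ¬ IsConj S.t (S.hom bM) := fun h => hF.not_te (h.trans hF.conj_eb.symm)

theorem conj_t_iff {x : C576} : IsConj S.t (S.hom x) ↔ (x = zM ∨ IsConj aM x) := by
  constructor
  · intro h
    have ho : orderOf x = 2 := by rw [← S.orderOf_hom, orderOf_conj_eq h, S.orderOf_t]
    rcases class_of_card ho with ⟨h', -⟩ | ⟨h' | h', -⟩ | ⟨h', -⟩
    · exact Or.inl h'
    · exact Or.inr h'
    · exact (S.not_t_b hF (h.trans (S.hom.map_isConj h').symm)).elim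
    · exact (hF.not_te (h.trans (S.hom.map_isConj h').symm)).elim
  · rintro (rfl | h)
    · rw [S.map_z]
    · exact hF.conj_a.trans (S.hom.map_isConj h)

theorem conj_B_iff {x : C576} : IsConj S.B (S.hom x) ↔ (IsConj bM x ∨ IsConj eM x) := by
  constructor
  · intro h
    have ho : orderOf x = 2 := by rw [← S.orderOf_hom, orderOf_conj_eq h, S.orderOf_B]
    rcases class_of_card ho with ⟨rfl, -⟩ | ⟨h' | h', -⟩ | ⟨h', -⟩
    · exact (hF.not_te (S.map_z ▸ h.symm)).elim
    · exact (hF.not_te (((hF.conj_a.trans (S.hom.map_isConj h')).trans h.symm))).elim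
    · exact Or.inl h'
    · exact Or.inr h'
  · rintro (h | h)
    · exact hF.conj_eb.trans (S.hom.map_isConj h)
    · exact S.hom.map_isConj h

theorem two_classes {g : G} (hg : orderOf g = 2) : IsConj S.t g ∨ IsConj S.B g := by
  rcases S.four_classes hg with h | h | h | h
  · exact Or.inl h
  · exact Or.inl (hF.conj_a.trans h)
  · exact Or.inr (hF.conj_eb.trans h)
  · exact Or.inr h

/-- A second frame for the centraliser of `B`: the centraliser of `bM` in the centraliser of `t`. -/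
theorem exists_frame : ∃ h : G, h * S.t * h⁻¹ = S.hom a1M ∧ h * S.hom bM * h⁻¹ = S.B := by
  obtain ⟨h, hh⟩ := isConj_iff.1 ((S.conj_t_iff hF).2 (five_facts cent_rel.2.2.2.2.2.2.2.2.2.2.2.1).1)
  have hB : h * (h⁻¹ * S.B * h) * h⁻¹ = S.B := by group
  obtain ⟨p, hp⟩ := S.exists_pre (show Commute (h⁻¹ * S.B * h) S.t by
    rw [← commute_conj_iff h, hB, hh]; exact (cent_rel.1.map S.hom).symm)
  have hpB : IsConj S.B (S.hom p) := isConj_iff.2 ⟨h⁻¹, by rw [hp, inv_inv]⟩
  rcases (S.conj_B_iff hF).1 hpB with hb | he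
  · obtain ⟨k, hk⟩ := isConj_iff.1 hb
    refine ⟨h * S.hom k, ?_, ?_⟩
    · calc h * S.hom k * S.t * (h * S.hom k)⁻¹ = h * (S.hom k * S.t) * (S.hom k)⁻¹ * h⁻¹ := by group
        _ = h * S.t * h⁻¹ := by rw [(S.commute_t k).eq]; group
        _ = _ := hh
    · calc h * S.hom k * S.hom bM * (h * S.hom k)⁻¹ = h * S.hom (k * bM * k⁻¹) * h⁻¹ := by
            rw [map_mul, map_mul, map_inv]; group
        _ = S.B := by rw [hk, hp, hB]
  · exfalso
    have e : IsConj S.t (S.hom (zM * p)) := by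
      refine ((S.conj_t_iff hF).2 (five_facts cent_rel.2.2.2.2.2.2.2.2.2.2.2.2).1).trans
        (isConj_iff.2 ⟨h⁻¹, ?_⟩)
      rw [map_mul, S.map_z, hp, inv_inv, ← cent_rel.2.1, map_mul, ← hh, B]
      group
    have hz : IsConj eM (zM * p) := by
      have h' := test times_z p
      simp only [Bool.and_eq_true, isConj_e.1 he, Bool.not_true, Bool.false_or] at h'
      exact isConj_e.2 (by rw [code_mul, code_zM]; exact h'.2)
    exact hF.not_te (e.trans (S.hom.map_isConj hz).symm)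

theorem pre_frame {h : G} (h1 : h * S.t * h⁻¹ = S.hom a1M) (h2 : h * S.hom bM * h⁻¹ = S.B) {x : G}
    (hB : x ∈ S.cW) (ha : Commute x (S.hom a1M)) : ∃ q, Commute q bM ∧ h * S.hom q * h⁻¹ = x := by
  have e : h * (h⁻¹ * x * h) * h⁻¹ = x := by group
  obtain ⟨q, hq⟩ := S.exists_pre (show Commute (h⁻¹ * x * h) S.t by rw [← commute_conj_iff h, e, h1]; exact ha)
  refine ⟨q, S.commute_hom_iff.1 ?_, by rw [hq, e]⟩
  rw [← commute_conj_iff h, hq, e, h2]
  exact S.mem_cW.1 hB

/-- The conjugates of `t` commuting with `B` and `a1M` are the five. -/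
theorem five_of_commute {x : G} (hx : IsConj S.t x) (hB : x ∈ S.cW) (ha : Commute x (S.hom a1M)) :
    ∃ q, Five q ∧ S.hom q = x := by
  classical
  obtain ⟨h, h1, h2⟩ := S.exists_frame hF
  let F := {q : C576 // Five q}
  let X := {x : G // IsConj S.t x ∧ x ∈ S.cW ∧ Commute x (S.hom a1M)}
  let i : F → X := fun q => ⟨S.hom q.1, (S.conj_t_iff hF).2 (five_facts q.2).1,
    S.hom_mem_cW (five_facts q.2).2.1, (five_facts q.2).2.2.2.1.map S.hom⟩
  have hi : Function.Injective i := fun a b e => Subtype.ext (S.inj (congrArg Subtype.val e))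
  have hj : ∀ x : X, ∃ q : F, h * S.hom q.1 * h⁻¹ = x.1 := by
    rintro ⟨x, hx, hB, ha⟩
    obtain ⟨q, hq, e⟩ := S.pre_frame hF h1 h2 hB ha
    exact ⟨⟨q, five_of_b ((S.conj_t_iff hF).1 (hx.trans (isConj_iff.2 ⟨h, e⟩).symm)) hq⟩, e⟩
  choose j hj' using hj
  have hjinj : Function.Injective j := fun a b e => Subtype.ext (by rw [← hj' a, ← hj' b, e])
  haveI : Finite X := Finite.of_injective j hjinj
  have hb : Function.Bijective i := (Nat.bijective_iff_injective_and_card i).2 ⟨hi,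
    le_antisymm (Nat.card_le_card_of_injective i hi) (Nat.card_le_card_of_injective j hjinj)⟩
  obtain ⟨q, hq⟩ := hb.2 ⟨x, hx, hB, ha⟩
  exact ⟨q.1, q.2, congrArg Subtype.val hq⟩

/-- `a1M` and `a2M` have the same centraliser in the centraliser of `B`. -/
theorem commute_a1_of_a2 {x : G} (hB : x ∈ S.cW) (h : Commute x (S.hom a2M)) : Commute x (S.hom a1M) := by
  have : S.hom a1M = S.hom a2M * S.B := by
    rw [← cent_rel.2.1, map_mul, B, mul_assoc, mul_self (by rw [S.orderOf_hom, orders.2.2.2]), mul_one]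
  rw [this]
  exact h.mul_right (S.mem_cW.1 hB)

theorem not_two_dvd_index :
    ¬ 2 ∣ (((centralizer ({eM} : Set C576)).map S.hom).subgroupOf S.cW).index := by
  haveI : Fact (Nat.Prime 2) := ⟨Nat.prime_two⟩
  set E0 := (centralizer ({eM} : Set C576)).map S.hom with hE0
  have hle : E0 ≤ S.cW := by
    rintro _ ⟨q, hq, rfl⟩
    exact S.hom_mem_cW (mem_centralizer_singleton_iff.1 hq)
  have hcard : Nat.card E0 = 32 := by
    rw [hE0, Nat.card_congr (Subgroup.equivMapOfInjective _ _ S.inj).toEquiv.symm, card_cent_e]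
  have hE : IsPGroup 2 (E0.subgroupOf S.cW) :=
    (IsPGroup.of_card (p := 2) (n := 5) (by rw [hcard]; norm_num)).of_equiv
      (Subgroup.subgroupOfEquivOfLe hle).symm
  obtain ⟨P, hP⟩ := hE.exists_le_sylow
  by_cases heq : E0.subgroupOf S.cW = (P : Subgroup S.cW)
  · rw [heq]; exact P.not_dvd_index
  exfalso
  haveI : Group.IsNilpotent (P : Subgroup S.cW) := P.2.isNilpotent
  have hlt : (E0.subgroupOf S.cW).subgroupOf P < ⊤ :=
    lt_top_iff_ne_top.2 fun e => heq (le_antisymm hP (Subgroup.subgroupOf_eq_top.1 e))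
  obtain ⟨n, hnN, hn⟩ := SetLike.exists_of_lt (Group.normalizerCondition_of_isNilpotent _ hlt)
  have hnorm : ∀ y, ∀ hy : y ∈ E0, ((n : S.cW) : G) * y * ((n : S.cW) : G)⁻¹ ∈ E0 ∧
      ((n : S.cW) : G)⁻¹ * y * ((n : S.cW) : G) ∈ E0 := fun y hy => by
    have h1 := (Subgroup.mem_normalizer_iff.1 hnN ⟨⟨y, hle hy⟩, hP (Subgroup.mem_subgroupOf.2 hy)⟩).1
      (Subgroup.mem_subgroupOf.2 (Subgroup.mem_subgroupOf.2 hy))
    have h2 := (Subgroup.mem_normalizer_iff.1 ((Subgroup.normalizer _).inv_mem hnN)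
      ⟨⟨y, hle hy⟩, hP (Subgroup.mem_subgroupOf.2 hy)⟩).1
      (Subgroup.mem_subgroupOf.2 (Subgroup.mem_subgroupOf.2 hy))
    exact ⟨Subgroup.mem_subgroupOf.1 (Subgroup.mem_subgroupOf.1 h1),
      by simpa [inv_inv] using Subgroup.mem_subgroupOf.1 (Subgroup.mem_subgroupOf.1 h2)⟩
  set m := ((n : S.cW) : G) with hm
  obtain ⟨w, hw, hwe⟩ := (hnorm S.t (S.map_z ▸ mem_map_of_mem _
    (mem_centralizer_singleton_iff.2 (zM_central eM).eq.symm))).1
  have hwz : w = zM := by
    have hwt : w = zM ∨ IsConj aM w := (S.conj_t_iff hF).1 (isConj_iff.2 ⟨m, hwe.symm⟩)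
    have hwc : ∀ y, Commute y eM → Commute w y := fun y hy => by
      rw [← S.commute_hom_iff, ← commute_conj_iff m⁻¹, hwe,
        show m⁻¹ * (m * S.t * m⁻¹) * m⁻¹⁻¹ = S.t by group]
      obtain ⟨y', -, hy'⟩ := (hnorm (S.hom y) (mem_map_of_mem _ (mem_centralizer_singleton_iff.2 hy.eq))).2
      rw [inv_inv, ← hy']
      exact (S.commute_t y').symm
    have h := test centre_check w
    rw [show commC w.code.val 162 = true from code_eM ▸ commute_iff.1 (hwc eM (Commute.refl _)),
      tmask_iff.1 hwt] at h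
    simp only [Bool.not_true, Bool.false_or, Bool.or_false, Bool.or_eq_true, Nat.beq_eq] at h
    rcases h with h | h
    · obtain ⟨y, hy⟩ := exists_of_any h
      simp only [Bool.and_eq_true, Bool.not_eq_true'] at hy
      rw [commute_iff.1 (hwc y (commute_iff.2 (code_eM ▸ hy.1)))] at hy
      simp at hy
    · exact C576.eq_iff.2 h
  rw [hwz, S.map_z] at hwe
  obtain ⟨q, hq, hqe⟩ := S.mem_cE (n : S.cW).2 (show Commute m S.t from mul_inv_eq_iff_eq_mul.1 hwe.symm)
  exact hn (Subgroup.mem_subgroupOf.2 (Subgroup.mem_subgroupOf.2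
    ⟨q, mem_centralizer_singleton_iff.2 hq.eq, hqe⟩))

/-- Every conjugate of `t` in the centraliser of `B` is conjugate there to one of the five. -/
theorem exists_five {x : G} (hx : IsConj S.t x) (hB : x ∈ S.cW) :
    ∃ k ∈ S.cW, ∃ q, Five q ∧ S.hom q = k * x * k⁻¹ := by
  haveI : Fact (Nat.Prime 2) := ⟨Nat.prime_two⟩
  set E0 := (centralizer ({eM} : Set C576)).map S.hom with hE0
  have hle : E0 ≤ S.cW := by
    rintro _ ⟨q, hq, rfl⟩
    exact S.hom_mem_cW (mem_centralizer_singleton_iff.1 hq)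
  have hE : IsPGroup 2 (E0.subgroupOf S.cW) :=
    (IsPGroup.of_card (p := 2) (n := 5) (by
      rw [hE0, Nat.card_congr (Subgroup.equivMapOfInjective _ _ S.inj).toEquiv.symm, card_cent_e]; norm_num)).of_equiv
      (Subgroup.subgroupOfEquivOfLe hle).symm
  let P : Sylow 2 S.cW := hE.toSylow (S.not_two_dvd_index hF)
  obtain ⟨k, hk⟩ := CfsgLib.Involution.Basic.exists_conj_mem P (x := (⟨x, hB⟩ : S.cW))
    (by rw [← Subgroup.orderOf_coe]; exact (orderOf_conj_eq hx).trans S.orderOf_t)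
  obtain ⟨q, hq, hqe⟩ := Subgroup.mem_subgroupOf.1 (show k * ⟨x, hB⟩ * k⁻¹ ∈ E0.subgroupOf S.cW from hk)
  exact ⟨k, k.2, q, five_of_e ((S.conj_t_iff hF).1 (hx.trans (isConj_iff.2 ⟨(k : G), hqe.symm⟩)))
    (mem_centralizer_singleton_iff.1 hq), hqe⟩

/-- Each of the five is `a1M`, `a2M` or conjugate to `t` in the centraliser of `B`. -/
theorem five_cases {q : C576} (hq : Five q) :
    q = a1M ∨ q = a2M ∨ ∃ g ∈ S.cW, g * S.t * g⁻¹ = S.hom q := by
  obtain ⟨h, h1, h2⟩ := S.exists_frame hF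
  have hc : ∀ p : C576, Five p → p = zM ∨ p = aM ∨ p = ⟨387⟩ ∨
      ∃ k, Commute k bM ∧ k * (⟨387⟩ : C576) * k⁻¹ = p := by
    intro p hp
    have h' : isFive p.code.val = true := hp
    unfold isFive at h'
    simp only [Bool.or_eq_true, Nat.beq_eq] at h'
    rcases h' with (((e | e) | e) | e) | e
    · exact Or.inl (C576.eq_iff.2 e)
    · exact Or.inr (Or.inl (C576.eq_iff.2 e))
    · exact Or.inr (Or.inr (Or.inl (C576.eq_iff.2 e)))
    · exact Or.inr (Or.inr (Or.inr ⟨⟨4⟩, commute_iff.2 cent_special.2.2.2.2.1,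
        C576.eq_iff.2 (by rw [code_conj, e]; exact cent_special.2.2.2.2.2.2.2.1)⟩))
    · exact Or.inr (Or.inr (Or.inr ⟨⟨8⟩, commute_iff.2 cent_special.2.2.2.2.2.1,
        C576.eq_iff.2 (by rw [code_conj, e]; exact cent_special.2.2.2.2.2.2.2.2.1)⟩))
  have hq' : ∀ x : C576, Five x → x ≠ a1M → x ≠ a2M →
      ∃ k, Commute k bM ∧ h * S.hom (k * (⟨387⟩ : C576) * k⁻¹) * h⁻¹ = S.hom x := by
    intro x hx n1 n2
    obtain ⟨p, hp, e⟩ := S.pre_frame hF h1 h2 (S.hom_mem_cW (five_facts hx).2.1) ((five_facts hx).2.2.2.1.map S.hom)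
    have hp5 : Five p := five_of_b ((S.conj_t_iff hF).1
      (((S.conj_t_iff hF).2 (five_facts hx).1).trans (isConj_iff.2 ⟨h, e⟩).symm)) hp
    rcases hc p hp5 with rfl | rfl | rfl | ⟨k, hk, rfl⟩
    · exact absurd (S.inj (by rw [← e, S.map_z, h1])) n1
    · refine absurd (S.inj ?_) n2
      have ea : S.hom aM = S.t * S.hom bM := by rw [← S.map_z, ← map_mul, cent_rel.2.2.2.2.2.2.2.1]
      rw [← e, ea, ← cent_rel.2.1, map_mul, ← h1, show S.hom eM = S.B from rfl, ← h2]
      group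
    · exact ⟨1, Commute.one_left _, by simpa using e⟩
    · exact ⟨k, hk, e⟩
  by_cases n1 : q = a1M
  · exact Or.inl n1
  by_cases n2 : q = a2M
  · exact Or.inr (Or.inl n2)
  obtain ⟨k, hk, ek⟩ := hq' q hq n1 n2
  obtain ⟨l, hl, el⟩ := hq' zM cent_rel.2.2.2.2.2.2.2.2.2.2.1 (by decide +kernel) (by decide +kernel)
  rw [S.map_z] at el
  refine Or.inr (Or.inr ⟨h * S.hom (k * l⁻¹) * h⁻¹, S.mem_cW.2 ?_, ?_⟩)
  · rw [← h2, commute_conj_iff, S.commute_hom_iff]
    exact hk.mul_left hl.inv_left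
  · rw [← ek, ← el]
    simp only [map_mul, map_inv]
    group

end Emb

end CfsgLib.KGroups.PSpFourThree
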