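import Cfsg.Agent.Lib.KGroups.PSpFourThree.Cent
import Cfsg.Agent.S0215
import Mathlib.GroupTheory.FixedPointFree

/-!
# The centraliser of `B` has trivial odd core
-/

set_option autoImplicit false
set_option maxRecDepth 40000
set_option linter.unusedSectionVars false
set_option linter.style.haveILetI false

namespace CfsgLib.KGroups.PSpFourThree

open C576 Subgroup CfsgLib.Involution.Dihedral

attribute [local irreducible] mulN invN commC inMask conjC commutC pow16 isFive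

theorem pow_of_sq_one {H : Type*} [Group H] {x : H} (h : x ^ 32 = 1) (hodd : Odd (orderOf x)) : x = 1 := by
  have hd : orderOf x ∣ 2 ^ 5 := orderOf_dvd_of_pow_eq_one h
  obtain ⟨k, -, hk⟩ := (Nat.dvd_prime_pow Nat.prime_two).1 hd
  rcases k with _ | k
  · exact orderOf_eq_one_iff.1 (by rw [hk, pow_zero])
  · rw [hk] at hodd
    exact absurd hodd (Nat.not_odd_iff_even.2 (Nat.even_pow.2 ⟨even_two, Nat.succ_ne_zero k⟩))

namespace Emb

variable {G : Type*} [Group G] [Finite G] (S : Emb G)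

/-- An odd normal subgroup of `C(B)/⟨B⟩` containing the commutators with the image of `a1M`. -/
structure Core (N : Subgroup (S.cW ⧸ S.zB)) : Prop where
  normal : N.Normal
  odd : Odd (Nat.card N)
  comm : ∀ a v : S.cW, (a : G) = S.hom a1M → S.qW (a * v * a⁻¹ * v⁻¹) ∈ N

variable (hF : Fused S) {N : Subgroup (S.cW ⧸ S.zB)} (hN : S.Core N)

include hF

theorem mem_cW_of_five {q : C576} (hq : Five q) : S.hom q ∈ S.cW := S.hom_mem_cW (five_facts hq).2.1

theorem conj_t_five {q : C576} (hq : Five q) : IsConj S.t (S.hom q) := (S.conj_t_iff hF).2 (five_facts hq).1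

theorem t_mem_cW : S.t ∈ S.cW := S.map_z ▸ S.mem_cW_of_five hF cent_rel.2.2.2.2.2.2.2.2.2.2.1

/-- The element `a1M` in the centraliser of `B`. -/
def A1 : S.cW := ⟨S.hom a1M, S.hom_mem_cW cent_rel.1⟩

theorem exists_core : ∃ N, S.Core N := by
  haveI : Fact (Nat.Prime 2) := ⟨Nat.prime_two⟩
  set E0 := (centralizer ({eM} : Set C576)).map S.hom with hE0
  have hle : E0 ≤ S.cW := by
    rintro _ ⟨q, hq, rfl⟩
    exact S.hom_mem_cW (mem_centralizer_singleton_iff.1 hq)
  have hE : IsPGroup 2 (E0.subgroupOf S.cW) :=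
    (IsPGroup.of_card (p := 2) (n := 5) (by
      rw [hE0, Nat.card_congr (Subgroup.equivMapOfInjective _ _ S.inj).toEquiv.symm, card_cent_e]; norm_num)).of_equiv
      (Subgroup.subgroupOfEquivOfLe hle).symm
  let P : Sylow 2 S.cW := hE.toSylow (S.not_two_dvd_index hF)
  let Q : Sylow 2 (S.cW ⧸ S.zB) := P.mapSurjective (QuotientGroup.mk'_surjective S.zB)
  set a := S.A1
  have ha2 : orderOf (S.qW a) = 2 := by
    refine orderOf_eq_two ?_ fun e => ?_
    · rw [← map_mul, show a * a = 1 from Subtype.ext (mul_self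
        ((orderOf_conj_eq (S.conj_t_five hF cent_rel.2.2.2.2.2.2.2.2.2.2.2.1)).trans S.orderOf_t)), map_one]
    · rcases S.qW_eq_one.1 e with h | h
      · exact absurd (S.inj ((congrArg Subtype.val h).trans S.hom.map_one.symm) : a1M = 1) (by decide +kernel)
      · exact absurd (S.inj h : a1M = eM) (by decide +kernel)
  have haQ : S.qW a ∈ (Q : Subgroup (S.cW ⧸ S.zB)) :=
    mem_map_of_mem _ (Subgroup.mem_subgroupOf.2 (mem_map_of_mem _ (mem_centralizer_singleton_iff.2 cent_rel.1.eq)))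
  obtain ⟨N, hN, hodd, hc⟩ := Cfsg.Agent.S0215.result Q (S.qW a) ha2 haQ fun gq hgq => by
    obtain ⟨g, rfl⟩ := QuotientGroup.mk'_surjective S.zB gq
    change S.qW g * S.qW a * (S.qW g)⁻¹ ∈ (P : Subgroup S.cW).map S.qW at hgq
    change S.qW g * S.qW a * (S.qW g)⁻¹ = S.qW a
    obtain ⟨v, hv, hve⟩ := hgq
    rw [← map_inv, ← map_mul, ← map_mul] at hve ⊢
    obtain ⟨w, hw, hwe⟩ := Subgroup.mem_subgroupOf.1 (show v ∈ E0.subgroupOf S.cW from hv)
    have hwB : Commute w eM := mem_centralizer_singleton_iff.1 hw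
    have hq : ∃ q, Commute q eM ∧ S.hom q = ((g * a * g⁻¹ : S.cW) : G) := by
      rcases S.qW_eq_iff.1 hve.symm with h | h
      · exact ⟨w, hwB, hwe.trans h.symm⟩
      · exact ⟨w * eM, hwB.mul_left (Commute.refl _), by rw [map_mul, hwe, h]; rfl⟩
    obtain ⟨q, hqB, hqe⟩ := hq
    have h5 := S.conj_t_five hF cent_rel.2.2.2.2.2.2.2.2.2.2.2.1
    have h5' := S.conj_t_five hF cent_rel.2.2.2.2.2.2.2.2.2.2.2.2
    have hconj : ∀ x : G, IsConj S.t x → IsConj S.t ((g : G) * x * (g : G)⁻¹) :=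
      fun x hx => hx.trans (isConj_iff.2 ⟨(g : G), rfl⟩)
    have hq1 : IsConj S.t (S.hom q) := by rw [hqe]; exact hconj _ h5
    have hq2 : IsConj S.t (S.hom (q * eM)) := by
      rw [map_mul, hqe, show ((g * a * g⁻¹ : S.cW) : G) * S.hom eM = (g : G) * S.hom a2M * (g : G)⁻¹ from ?_]
      · exact hconj _ h5'
      · rw [← cent_rel.2.1, map_mul]
        show (g : G) * S.hom a1M * (g : G)⁻¹ * S.hom eM = _
        rw [mul_assoc ((g : G) * S.hom a1M),
          (show Commute (g : G)⁻¹ (S.hom eM) from (S.mem_cW.1 g.2).inv_left).eq]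
        group
    have hqq : q = a1M ∨ q = a2M := by
      have h1 := five_of_e ((S.conj_t_iff hF).1 hq1) hqB
      have h2 := five_of_e ((S.conj_t_iff hF).1 hq2) (hqB.mul_left (Commute.refl _))
      have hchk : ∀ x : C576, isFive x.code.val = true → isFive (mulN x.code.val 162) = true →
          x.code.val = 485 ∨ x.code.val = 575 := by
        intro x
        have h : All576 fun x => !(isFive x && isFive (mulN x 162)) || Nat.beq x 485 || Nat.beq x 575 := by
          decide +kernel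
        intro e1 e2
        have h' := test h x
        rw [e1, e2] at h'
        simpa using h'
      rcases hchk q h1 h2 with e | e
      · exact Or.inl (C576.eq_iff.2 e)
      · exact Or.inr (C576.eq_iff.2 e)
    refine S.qW_eq_iff.2 ?_
    rcases hqq with rfl | rfl
    · exact Or.inl hqe.symm
    · refine Or.inr ?_
      rw [← hqe, ← cent_rel.2.1, map_mul]
      rfl
  refine ⟨N, hN, hodd, fun a' v ha' => ?_⟩
  obtain rfl : a' = a := Subtype.ext ha'
  simpa only [map_mul, map_inv] using hc (S.qW v)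

include hN

/-- Modulo the core, every conjugate of `t` is congruent to one of the five. -/
theorem exists_five_mod {x : S.cW} (hx : IsConj S.t (x : G)) :
    ∃ q, ∃ hq : Five q, (S.qW x)⁻¹ * S.qW ⟨S.hom q, S.mem_cW_of_five hF hq⟩ ∈ N := by
  haveI := hN.normal
  set a := S.A1
  obtain ⟨k, hk, r0, hr0, hr⟩ := S.exists_five hF hx x.2
  let k' : S.cW := ⟨k, hk⟩
  set g := k'⁻¹
  let π := QuotientGroup.mk' N
  have hπ : π (S.qW (g * a * g⁻¹)) = π (S.qW a) := by
    have := (QuotientGroup.eq_one_iff _).2 (hN.comm a g rfl)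
    change π (S.qW (a * g * a⁻¹ * g⁻¹)) = 1 at this
    simp only [map_mul, map_inv] at this ⊢
    rw [mul_inv_eq_one, mul_inv_eq_iff_eq_mul] at this
    rw [← this, mul_inv_cancel_right]
  have hao : ∀ y : S.cW, orderOf (y : G) = 2 → S.qW y * S.qW y = 1 := fun y hy => by
    rw [← map_mul, show y * y = 1 from Subtype.ext (mul_self hy), map_one]
  have ha2 : orderOf (a : G) = 2 :=
    (orderOf_conj_eq (S.conj_t_five hF cent_rel.2.2.2.2.2.2.2.2.2.2.2.1)).trans S.orderOf_t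
  have hm : S.qW (g * a * g⁻¹) * S.qW a ∈ N := by
    refine (QuotientGroup.eq_one_iff _).1 ?_
    change π (S.qW (g * a * g⁻¹) * S.qW a) = 1
    rw [map_mul, hπ, ← map_mul, hao a ha2, map_one]
  by_cases he : S.qW (g * a * g⁻¹) = S.qW a
  · exact exists_five_mod_aux S hF hN hr0 hr (hk := hk) he 1 (by rw [map_one]; exact one_mem _) (one_mul g)
  have ho : Odd (orderOf (S.qW a * S.qW (g * a * g⁻¹))) := by
    have h' : S.qW a * S.qW (g * a * g⁻¹) ∈ N := hN.normal.mem_comm hm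
    refine Odd.of_dvd_nat hN.odd ?_
    have := orderOf_dvd_natCard (⟨_, h'⟩ : N)
    rwa [← Subgroup.orderOf_coe] at this
  have hne : ∀ y : S.cW, orderOf (y : G) = 2 → (y : G) ≠ S.B → orderOf (S.qW y) = 2 := fun y hy hyB =>
    orderOf_eq_two (hao y hy) fun e => (S.qW_eq_one.1 e).elim
      (fun h => ne_one hy (congrArg Subtype.val h)) hyB
  have hga : IsConj (a : G) ((g * a * g⁻¹ : S.cW) : G) := isConj_iff.2 ⟨(g : G), rfl⟩
  have haB : ∀ y : G, IsConj S.t y → y ≠ S.B := fun y hy e => hF.not_te (e ▸ hy :)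
  have hat : IsConj S.t (a : G) := S.conj_t_five hF cent_rel.2.2.2.2.2.2.2.2.2.2.2.1
  obtain ⟨d, hd, hde⟩ := exists_conj_of_odd (hne a ha2 (haB _ hat))
    (hne _ ((orderOf_conj_eq hga).trans ha2) (haB _ (hat.trans hga))) ho
  obtain ⟨n, rfl⟩ := QuotientGroup.mk'_surjective S.zB d
  have hdN : S.qW n ∈ N := (Subgroup.zpowers_le.2 (hN.normal.mem_comm hm)) hd
  refine exists_five_mod_aux S hF hN hr0 hr (hk := hk) (g := n⁻¹ * g) ?_ n hdN (mul_inv_cancel_left n g)
  change S.qW n * S.qW a * (S.qW n)⁻¹ = S.qW (g * a * g⁻¹) at hde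
  rw [show n⁻¹ * g * a * (n⁻¹ * g)⁻¹ = n⁻¹ * (g * a * g⁻¹) * n by group, map_mul, map_mul, ← hde, map_inv]
  group
  rfl
where
  exists_five_mod_aux {G : Type _} [Group G] [Finite G] (S : Emb G) (hF : Fused S)
      {N : Subgroup (S.cW ⧸ S.zB)} (hN : S.Core N) {x : S.cW} {k : G} {hk : k ∈ S.cW} {r0 : C576}
      (hr0 : Five r0) (hr : S.hom r0 = k * (x : G) * k⁻¹) {g : S.cW}
      (he : S.qW (g * S.A1 * g⁻¹) = S.qW S.A1) (n : S.cW) (hn : S.qW n ∈ N)
      (hg : n * g = (⟨k, hk⟩ : S.cW)⁻¹) :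
      ∃ q, ∃ hq : Five q, (S.qW x)⁻¹ * S.qW ⟨S.hom q, S.mem_cW_of_five hF hq⟩ ∈ N := by
    haveI := hN.normal
    set r : S.cW := ⟨S.hom r0, S.mem_cW_of_five hF hr0⟩
    have hcomm : Commute ((g * r * g⁻¹ : S.cW) : G) (S.hom a1M) := by
      have h1 : Commute ((g * r * g⁻¹ : S.cW) : G) ((g * S.A1 * g⁻¹ : S.cW) : G) :=
        (commute_conj_iff (g : G)).2 ((five_facts hr0).2.2.2.1.map S.hom)
      rcases S.qW_eq_iff.1 he with h | h
      · rw [h] at h1; exact h1
      · rw [h] at h1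
        refine S.commute_a1_of_a2 hF (g * r * g⁻¹).2 ?_
        rw [← cent_rel.2.1, map_mul]
        exact h1
    obtain ⟨q, hq, hqe⟩ := S.five_of_commute hF
      ((S.conj_t_five hF hr0).trans (isConj_iff.2 ⟨(g : G), rfl⟩)) (g * r * g⁻¹).2 hcomm
    refine ⟨q, hq, ?_⟩
    rw [show (⟨S.hom q, S.mem_cW_of_five hF hq⟩ : S.cW) = g * r * g⁻¹ from Subtype.ext hqe]
    have hxr : x = n * g * r * (n * g)⁻¹ := by
      rw [hg]; refine Subtype.ext ?_
      show (x : G) = k⁻¹ * S.hom r0 * k⁻¹⁻¹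
      rw [hr]; group
    have hg' : (S.qW x)⁻¹ * S.qW (g * r * g⁻¹) =
        S.qW n * ((S.qW (g * r * g⁻¹))⁻¹ * (S.qW n)⁻¹ * S.qW (g * r * g⁻¹)) := by
      rw [hxr]; simp only [map_mul, map_inv]; group
    rw [hg']
    refine N.mul_mem hn ?_
    have := hN.normal.conj_mem _ (N.inv_mem hn) (S.qW (g * r * g⁻¹))⁻¹
    rwa [inv_inv] at this

/-- If an element of odd order is inverted by a conjugate of `t` then it lies in the core. -/
theorem mem_core_of_inverted {x r : S.cW} (hx : Odd (orderOf x)) (hr : IsConj S.t (r : G))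
    (hi : r * x * r⁻¹ = x⁻¹) : S.qW x ∈ N := by
  haveI := hN.normal
  let π := (QuotientGroup.mk' N).comp S.qW
  have hcomm : ∀ r s : S.cW, IsConj S.t (r : G) → IsConj S.t (s : G) → Commute (π r) (π s) := by
    intro r s hr hs
    obtain ⟨q, hq, hq'⟩ := S.exists_five_mod hF hN hr
    obtain ⟨p, hp, hp'⟩ := S.exists_five_mod hF hN hs
    have e1 : π r = π ⟨S.hom q, S.mem_cW_of_five hF hq⟩ := QuotientGroup.eq.2 hq'
    have e2 : π s = π ⟨S.hom p, S.mem_cW_of_five hF hp⟩ := QuotientGroup.eq.2 hp'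
    rw [e1, e2]
    exact Commute.map (Subtype.ext ((five_facts hq).2.2.2.2 p hp |>.map S.hom).eq) π
  have hr2 : r * r = 1 := Subtype.ext (mul_self ((orderOf_conj_eq hr).trans S.orderOf_t))
  have hri : r⁻¹ = r := inv_eq_of_mul_eq_one_right hr2
  have hrx : r * (x⁻¹ * r * x) = x * x := by
    calc r * (x⁻¹ * r * x) = r * x⁻¹ * r⁻¹ * x := by rw [hri]; simp only [mul_assoc]
      _ = (r * x * r⁻¹)⁻¹ * x := by group
      _ = x * x := by rw [hi, inv_inv]
  have hs : IsConj S.t ((x⁻¹ * r * x : S.cW) : G) := hr.trans (isConj_iff.2 ⟨((x⁻¹ : S.cW) : G), by simp⟩)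
  have h4 : π x ^ 32 = 1 := by
    have hc := hcomm r (x⁻¹ * r * x) hr hs
    have e : π x ^ 4 = 1 := by
      rw [show π x ^ 4 = π x * π x * (π x * π x) by simp only [pow_succ, pow_zero, one_mul, mul_assoc],
        ← map_mul, ← hrx, map_mul, hc.symm.mul_mul_mul_comm, ← map_mul, hr2, map_one, one_mul, ← map_mul,
        show x⁻¹ * r * x * (x⁻¹ * r * x) = 1 by
          rw [show x⁻¹ * r * x * (x⁻¹ * r * x) = x⁻¹ * (r * r) * x by group, hr2]; group, map_one]
    rw [show (32 : ℕ) = 4 * 8 from rfl, pow_mul, e, one_pow]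
  have := pow_of_sq_one h4 (Odd.of_dvd_nat hx (orderOf_map_dvd π x))
  exact (QuotientGroup.eq_one_iff (S.qW x)).1 this

/-- The fixed points of a conjugate of `t` on the core. -/
theorem fixed_t {n : S.cW} (hn : S.qW n ∈ N) {g : S.cW} {r : S.cW} (hg : (g : G) * S.t * (g : G)⁻¹ = (r : G))
    (hfix : S.qW r * S.qW n * (S.qW r)⁻¹ = S.qW n) : S.qW n = 1 := by
  haveI := hN.normal
  set m := g⁻¹ * n * g with hm
  have hrr : (g⁻¹ * r * g : S.cW) = ⟨S.t, S.t_mem_cW hF⟩ := Subtype.ext (by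
    show (g : G)⁻¹ * (r : G) * (g : G) = S.t; rw [← hg]; group)
  have hmN : S.qW m ∈ N := by
    rw [hm, map_mul, map_mul]
    have := hN.normal.conj_mem _ hn (S.qW g⁻¹)
    rwa [map_inv, inv_inv, ← map_inv] at this
  have hf : S.qW ⟨S.t, S.t_mem_cW hF⟩ * S.qW m * (S.qW ⟨S.t, S.t_mem_cW hF⟩)⁻¹ = S.qW m := by
    rw [← hrr, hm]
    simp only [map_mul, map_inv]
    calc _ = (S.qW g)⁻¹ * (S.qW r * S.qW n * (S.qW r)⁻¹) * S.qW g := by group
      _ = _ := by rw [hfix]
  set tw : S.cW := ⟨S.t, S.t_mem_cW hF⟩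
  have hc : Commute ((m * m : S.cW) : G) S.t := by
    have e : S.qW (tw * m * tw⁻¹) = S.qW m := by rw [map_mul, map_mul, map_inv]; exact hf
    have hB : Commute (m : G) S.B := S.mem_cW.1 m.2
    have key : S.t * ((m : G) * m) * S.t⁻¹ = (m : G) * m := by
      rcases S.qW_eq_iff.1 e with h | h <;>
        simp only [Subgroup.coe_mul, Subgroup.coe_inv] at h <;>
        change S.t * (m : G) * S.t⁻¹ = _ at h <;>
        rw [show S.t * ((m : G) * m) * S.t⁻¹ = S.t * (m : G) * S.t⁻¹ * (S.t * (m : G) * S.t⁻¹) by group, h]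
      rw [hB.symm.mul_mul_mul_comm, mul_self S.orderOf_B, mul_one]
    exact (show Commute S.t ((m : G) * m) from mul_inv_eq_iff_eq_mul.1 key).symm
  obtain ⟨q, hq, hqe⟩ := S.mem_cE (m * m).2 hc
  have h16 : (m * m) ^ 16 = 1 := Subtype.ext (by
    rw [Subgroup.coe_pow, ← hqe, ← map_pow, pow16_of_cent_e hq, map_one]; rfl)
  have e1 : S.qW m = 1 := pow_of_sq_one
    (by rw [show (32 : ℕ) = 2 * 16 from rfl, pow_mul, pow_two, ← map_mul, ← map_pow, h16, map_one])
    (Odd.of_dvd_nat hN.odd (by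
      have := orderOf_dvd_natCard (⟨_, hmN⟩ : N)
      rwa [← Subgroup.orderOf_coe] at this))
  have e2 : n = g * m * g⁻¹ := by rw [hm]; group
  rw [e2, map_mul, map_mul, e1, mul_one, map_inv, mul_inv_cancel]

/-- The core is commutative. -/
theorem core_comm {u v : S.cW ⧸ S.zB} (hu : u ∈ N) (hv : v ∈ N) : Commute u v := by
  haveI := hN.normal
  set tw : S.cW := ⟨S.t, S.t_mem_cW hF⟩
  let φ : N →* N := (MulAut.conjNormal (H := N) (S.qW tw)).toMonoidHom
  have hφ : ∀ x : N, ((φ x : N) : S.cW ⧸ S.zB) = S.qW tw * x * (S.qW tw)⁻¹ := fun x => MulAut.conjNormal_apply _ _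
  have hfpf : MonoidHom.FixedPointFree φ := by
    rintro ⟨x, hx⟩ h
    obtain ⟨n, rfl⟩ := QuotientGroup.mk'_surjective S.zB x
    exact Subtype.ext (S.fixed_t hF hN hx (g := 1) (r := tw) (by simp [tw])
      ((hφ ⟨_, hx⟩).symm.trans (congrArg Subtype.val h)))
  have hinv : Function.Involutive φ := fun x => Subtype.ext (by
    have h2 : S.qW tw * S.qW tw = 1 := by
      rw [← map_mul, show tw * tw = 1 from Subtype.ext (mul_self S.orderOf_t), map_one]
    rw [hφ, hφ]
    calc S.qW tw * (S.qW tw * (x : S.cW ⧸ S.zB) * (S.qW tw)⁻¹) * (S.qW tw)⁻¹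
        = S.qW tw * S.qW tw * x * (S.qW tw * S.qW tw)⁻¹ := by group
      _ = _ := by rw [h2]; simp)
  exact congrArg Subtype.val (hfpf.commute_all_of_involutive hinv ⟨u, hu⟩ ⟨v, hv⟩).eq

/-- Conjugates of `t` have no fixed points on the core. -/
theorem fixed_point_free {n r : S.cW} (hn : S.qW n ∈ N) (hr : IsConj S.t (r : G))
    (hfix : S.qW r * S.qW n * (S.qW r)⁻¹ = S.qW n) : S.qW n = 1 := by
  haveI := hN.normal
  obtain ⟨k, hk, q, hq, hqe⟩ := S.exists_five hF hr r.2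
  set k' : S.cW := ⟨k, hk⟩
  rcases S.five_cases hF hq with e | e | ⟨g, hg, hge⟩
  pick_goal 3
  · refine S.fixed_t hF hN hn (g := k'⁻¹ * ⟨g, hg⟩) ?_ hfix
    show k⁻¹ * g * S.t * (k⁻¹ * g)⁻¹ = (r : G)
    rw [show k⁻¹ * g * S.t * (k⁻¹ * g)⁻¹ = k⁻¹ * (g * S.t * g⁻¹) * k by group, hge, hqe]
    group
  all_goals
    set m := k' * n * k'⁻¹ with hm
    have hmN : S.qW m ∈ N := by
      rw [hm, map_mul, map_mul, map_inv]
      exact hN.normal.conj_mem _ hn _
    set a := S.A1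
    have hka : S.qW (k' * r * k'⁻¹) = S.qW a := S.qW_eq_iff.2 (by
      have h' : ((k' * r * k'⁻¹ : S.cW) : G) = S.hom q := hqe.symm
      rw [h', e]
      first
        | exact Or.inl rfl
        | exact Or.inr (by rw [← cent_rel.2.1, map_mul]; rfl))
    have hf : S.qW a * S.qW m * (S.qW a)⁻¹ = S.qW m := by
      rw [← hka, hm]
      simp only [map_mul, map_inv]
      calc _ = S.qW k' * (S.qW r * S.qW n * (S.qW r)⁻¹) * (S.qW k')⁻¹ := by group
        _ = _ := by rw [hfix]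
    suffices h1 : S.qW m = 1 by
      rw [show n = k'⁻¹ * m * k' by rw [hm]; group, map_mul, map_mul, h1, mul_one, map_inv, inv_mul_cancel]
    exact fixed_a S hF hN hmN hf
where
  fixed_a {G : Type _} [Group G] [Finite G] (S : Emb G) (hF : Fused S) {N : Subgroup (S.cW ⧸ S.zB)}
      (hN : S.Core N) {m : S.cW} (hmN : S.qW m ∈ N)
      (hf : S.qW S.A1 * S.qW m * (S.qW S.A1)⁻¹ = S.qW m) : S.qW m = 1 := by
    haveI := hN.normal
    have hc : Commute ((m * m : S.cW) : G) (S.hom a1M) := by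
      have e : S.qW (S.A1 * m * S.A1⁻¹) = S.qW m := by rw [map_mul, map_mul, map_inv]; exact hf
      have hB : Commute (m : G) S.B := S.mem_cW.1 m.2
      have key : S.hom a1M * ((m : G) * m) * (S.hom a1M)⁻¹ = (m : G) * m := by
        rcases S.qW_eq_iff.1 e with h | h <;>
          simp only [Subgroup.coe_mul, Subgroup.coe_inv] at h <;>
          change S.hom a1M * (m : G) * (S.hom a1M)⁻¹ = _ at h <;>
          rw [show S.hom a1M * ((m : G) * m) * (S.hom a1M)⁻¹ =
            S.hom a1M * (m : G) * (S.hom a1M)⁻¹ * (S.hom a1M * (m : G) * (S.hom a1M)⁻¹) by group, h]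
        rw [hB.symm.mul_mul_mul_comm, mul_self S.orderOf_B, mul_one]
      exact (show Commute (S.hom a1M) ((m : G) * m) from mul_inv_eq_iff_eq_mul.1 key).symm
    obtain ⟨h, h1, h2⟩ := S.exists_frame hF
    obtain ⟨q, hq, hqe⟩ := S.pre_frame hF h1 h2 (m * m).2 hc
    let φ : G →* G := (MulAut.conj h).toMonoidHom.comp (MonoidHom.id G)
    have hqm : S.hom q = h⁻¹ * ((m * m : S.cW) : G) * h := by rw [← hqe]; group
    have hconj : ∀ k, Commute k bM → h * S.hom k * h⁻¹ ∈ S.cW := fun k hk => S.mem_cW.2 (by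
      rw [← h2, commute_conj_iff]; exact hk.map S.hom)
    have h16 : q ^ 16 = 1 := pow16_of_cent_b hq fun k hk => by
      set kw : S.cW := ⟨_, hconj k hk⟩
      set v := m * m
      have hv : S.qW v ∈ N := by rw [map_mul]; exact N.mul_mem hmN hmN
      have hv' : S.qW (kw * v * kw⁻¹) ∈ N := by
        rw [map_mul, map_mul, map_inv]; exact hN.normal.conj_mem _ hv _
      have hc := S.core_comm hF hN hv hv'
      have h1' : S.qW (v⁻¹ * (kw * v * kw⁻¹)⁻¹ * (v * (kw * v * kw⁻¹))) = 1 := by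
        rw [map_mul, map_mul, map_mul S.qW v, map_inv, map_inv, hc.eq]; group
      set c := q⁻¹ * (k * q * k⁻¹)⁻¹ * (q * (k * q * k⁻¹))
      have himg : ((v⁻¹ * (kw * v * kw⁻¹)⁻¹ * (v * (kw * v * kw⁻¹)) : S.cW) : G) = h * S.hom c * h⁻¹ := by
        simp only [Subgroup.coe_mul, Subgroup.coe_inv, c, map_mul, map_inv, ← hqe, kw]
        group
      rcases S.qW_eq_one.1 h1' with e | e
      · left
        have e' := congrArg Subtype.val e
        rw [himg, Subgroup.coe_one, conj_eq_one_iff] at e'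
        exact S.inj (e'.trans S.hom.map_one.symm)
      · right
        rw [himg, ← h2] at e
        exact S.inj (mul_left_cancel (mul_right_cancel e))
    have hm32 : (m * m) ^ 16 = 1 := Subtype.ext (by
      rw [Subgroup.coe_pow, ← hqe, _root_.conj_pow, ← map_pow, h16, map_one, mul_one, mul_inv_cancel]; rfl)
    exact pow_of_sq_one
      (by rw [show (32 : ℕ) = 2 * 16 from rfl, pow_mul, pow_two, ← map_mul, ← map_pow, hm32, map_one])
      (Odd.of_dvd_nat hN.odd (by
        have := orderOf_dvd_natCard (⟨_, hmN⟩ : N)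
        rwa [← Subgroup.orderOf_coe] at this))

/-- Conjugates of `t` invert the odd elements over the core. -/
theorem inverts {x r : S.cW} (hx : Odd (orderOf x)) (hxN : S.qW x ∈ N) (hr : IsConj S.t (r : G)) :
    r * x * r⁻¹ = x⁻¹ := by
  haveI := hN.normal
  have hy : S.qW r * S.qW x * (S.qW r)⁻¹ ∈ N := hN.normal.conj_mem _ hxN _
  have hr2 : r * r = 1 := Subtype.ext (mul_self ((orderOf_conj_eq hr).trans S.orderOf_t))
  have hri : r⁻¹ = r := inv_eq_of_mul_eq_one_right hr2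
  have e : S.qW (x * (r * x * r⁻¹)) = 1 := by
    refine S.fixed_point_free hF hN (by rw [map_mul, map_mul, map_mul, map_inv]; exact N.mul_mem hxN hy) hr ?_
    rw [← map_inv, ← map_mul, ← map_mul,
      show r * (x * (r * x * r⁻¹)) * r⁻¹ = r * x * r⁻¹ * (r * r * x * (r * r)⁻¹) by group, hr2, one_mul, inv_one,
      mul_one, map_mul, map_mul S.qW x]
    exact (S.core_comm hF hN hxN (by rw [map_mul, map_mul, map_inv]; exact hy)).eq.symm
  rcases S.qW_eq_one.1 e with h | h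
  · exact (inv_eq_of_mul_eq_one_right h).symm
  · exfalso
    have hB : x * (r * x * r⁻¹) = S.Bw := Subtype.ext h
    have hB2 : S.Bw * S.Bw = 1 := Subtype.ext (mul_self S.orderOf_B)
    have hc : Commute x⁻¹ S.Bw := Subtype.ext (S.mem_cW.1 (x⁻¹).2)
    have h' : r * x * r⁻¹ = x⁻¹ * S.Bw := by rw [← hB]; group
    obtain ⟨i, hi⟩ := hx
    have h1 := congrArg (fun y => y ^ orderOf x) h'
    simp only [_root_.conj_pow, hc.mul_pow, inv_pow, pow_orderOf_eq_one, inv_one, one_mul, mul_one, mul_inv_cancel] at h1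
    rw [hi, pow_succ, pow_mul, pow_two, hB2, one_pow, one_mul] at h1
    exact ne_one S.orderOf_B (congrArg Subtype.val h1).symm

/-- The odd elements of `C(B)` over the core. -/
def InO (N : Subgroup (S.cW ⧸ S.zB)) (x : G) : Prop :=
  ∃ hx : x ∈ S.cW, Odd (orderOf x) ∧ S.qW ⟨x, hx⟩ ∈ N

theorem centralises {r s : G} (hr : IsConj S.t r) (hs : IsConj S.t s) (hrB : r ∈ S.cW) (hsB : s ∈ S.cW)
    {x : G} (hx : S.InO N x) : Commute (r * s) x := by
  obtain ⟨hxW, hodd, hxN⟩ := hx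
  have ho : Odd (orderOf (⟨x, hxW⟩ : S.cW)) := by rwa [← Subgroup.orderOf_coe]
  have h1 := congrArg Subtype.val (S.inverts hF hN ho hxN (r := ⟨r, hrB⟩) hr)
  have h2 := congrArg Subtype.val (S.inverts hF hN ho hxN (r := ⟨s, hsB⟩) hs)
  simp only [Subgroup.coe_mul, Subgroup.coe_inv] at h1 h2
  show r * s * x = x * (r * s)
  calc r * s * x = r * (s * x * s⁻¹) * s := by group
    _ = (r * x * r⁻¹)⁻¹ * r * s := by rw [h2]; group
    _ = x * (r * s) := by rw [h1, inv_inv, mul_assoc]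

theorem core_eq_bot : N = ⊥ := by
  haveI := hN.normal
  obtain ⟨g, hg⟩ := isConj_iff.1 ((S.conj_B_iff hF).2 (Or.inl cent_rel.2.2.2.1))
  have ht : IsConj S.t S.t := IsConj.refl _
  have ha : IsConj S.t (S.hom a1M) := S.conj_t_five hF cent_rel.2.2.2.2.2.2.2.2.2.2.2.1
  have hf : S.hom fM = S.t * S.hom a1M := by rw [← S.map_z, ← map_mul, cent_rel.2.2.1]
  have hpull : ∀ {y : G}, Commute y (S.hom fM) → g⁻¹ * y * g ∈ S.cW := fun {y} hy => S.mem_cW.2 (by
    rw [← commute_conj_iff g, show g * (g⁻¹ * y * g) * g⁻¹ = y by group, hg]; exact hy)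
  have hback : ∀ x, S.InO N x → S.InO N (g⁻¹ * x * g) := by
    intro x hx
    have hcf : Commute x (S.hom fM) := by
      rw [hf]; exact (S.centralises hF hN ht ha (S.t_mem_cW hF) (S.hom_mem_cW cent_rel.1) hx).symm
    obtain ⟨hxW, hodd, hxN⟩ := hx
    have hodd' : Odd (orderOf (g⁻¹ * x * g)) := by
      rwa [show g⁻¹ * x * g = g⁻¹ * x * g⁻¹⁻¹ by rw [inv_inv], orderOf_conj]
    refine ⟨hpull hcf, hodd', ?_⟩
    have ho : Odd (orderOf (⟨x, hxW⟩ : S.cW)) := by rwa [← Subgroup.orderOf_coe]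
    have hi := congrArg Subtype.val (S.inverts hF hN ho hxN (r := ⟨S.t, S.t_mem_cW hF⟩) ht)
    simp only [Subgroup.coe_mul, Subgroup.coe_inv] at hi
    refine S.mem_core_of_inverted hF hN (r := ⟨g⁻¹ * S.t * g, hpull (S.commute_t fM).symm⟩)
      (by rwa [← Subgroup.orderOf_coe]) (isConj_iff.2 ⟨g⁻¹, by rw [inv_inv]⟩) (Subtype.ext ?_)
    show g⁻¹ * S.t * g * (g⁻¹ * x * g) * (g⁻¹ * S.t * g)⁻¹ = (g⁻¹ * x * g)⁻¹
    calc _ = g⁻¹ * (S.t * x * S.t⁻¹) * g := by group
      _ = _ := by rw [hi]; group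
  have hfw : ∀ x, S.InO N x → S.InO N (g * x * g⁻¹) := by
    intro x hx
    let F : {x // S.InO N x} → {x // S.InO N x} := fun y => ⟨g⁻¹ * y.1 * g, hback _ y.2⟩
    have hs : Function.Surjective F := Finite.surjective_of_injective fun a b e =>
      Subtype.ext (mul_left_cancel (mul_right_cancel (congrArg Subtype.val e)))
    obtain ⟨y, hy⟩ := hs ⟨x, hx⟩
    rw [← (show g⁻¹ * y.1 * g = x from congrArg Subtype.val hy), show g * (g⁻¹ * y.1 * g) * g⁻¹ = y.1 by group]
    exact y.2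
  have hnorm : ∀ c, Commute c (S.hom fM) → ∀ x, S.InO N x → S.InO N (c * x * c⁻¹) := by
    intro c hc x hx
    obtain ⟨hyW, hodd, hyN⟩ := hback x hx
    set w : S.cW := ⟨g⁻¹ * c * g, hpull hc⟩
    have := hfw ((w : G) * (g⁻¹ * x * g) * (w : G)⁻¹) ⟨(w * ⟨_, hyW⟩ * w⁻¹).2, by rwa [orderOf_conj], by
      show S.qW (w * ⟨_, hyW⟩ * w⁻¹) ∈ N
      rw [map_mul, map_mul, map_inv]
      exact hN.normal.conj_mem _ hyN _⟩
    rwa [show g * ((w : G) * (g⁻¹ * x * g) * (w : G)⁻¹) * g⁻¹ = c * x * c⁻¹ by simp only [w]; group] at this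
  have hkey : ∀ x, S.InO N x → x = 1 := by
    intro x hx
    have hcc : ∀ c : C576, Commute c fM → Commute (S.hom (c * eM * c⁻¹)) x := by
      intro c hc
      have h1 := (hnorm _ (hc.inv_left.map S.hom) x hx).1
      rw [map_mul, map_mul, map_inv]
      rw [← commute_conj_iff (S.hom c)⁻¹]
      rw [show (S.hom c)⁻¹ * (S.hom c * S.hom eM * (S.hom c)⁻¹) * (S.hom c)⁻¹⁻¹ = S.B by rw [B]; group]
      rw [map_inv] at h1
      exact (S.mem_cW.1 h1).symm
    have h0 : Commute S.t x := by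
      rw [← S.map_z, cent_rel.2.2.2.2.2.2.1, map_mul, map_mul]
      exact ((show Commute (S.hom eM) x from (S.mem_cW.1 hx.1).symm).mul_left
        (hcc _ cent_rel.2.2.2.2.1)).mul_left (hcc _ cent_rel.2.2.2.2.2.1)
    obtain ⟨hxW, hodd, hxN⟩ := hx
    have hi := congrArg Subtype.val (S.inverts hF hN (x := ⟨x, hxW⟩) (by rwa [← Subgroup.orderOf_coe]) hxN
      (r := ⟨S.t, S.t_mem_cW hF⟩) ht)
    simp only [Subgroup.coe_mul, Subgroup.coe_inv] at hi
    rw [h0.eq, mul_inv_cancel_right] at hi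
    refine pow_of_sq_one (show x ^ 32 = 1 from ?_) hodd
    rw [show (32 : ℕ) = 2 * 16 from rfl, pow_mul, pow_two]
    nth_rw 2 [hi]
    rw [mul_inv_cancel, one_pow]
  refine (Subgroup.eq_bot_iff_forall _).2 fun u hu => ?_
  obtain ⟨w, rfl⟩ := QuotientGroup.mk'_surjective S.zB u
  change S.qW w ∈ N at hu
  change S.qW w = 1
  set m := orderOf (S.qW w) with hm
  have hmodd : Odd m := Odd.of_dvd_nat hN.odd (by
    have := orderOf_dvd_natCard (⟨_, hu⟩ : N)
    rwa [← Subgroup.orderOf_coe] at this)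
  have h2m : (w * w) ^ m = 1 := by
    have e : S.qW (w ^ m) = 1 := by rw [map_pow, hm, pow_orderOf_eq_one]
    rw [← pow_two, ← pow_mul, mul_comm, pow_mul, pow_two]
    rcases S.qW_eq_one.1 e with h | h
    · rw [h, one_mul]
    · exact Subtype.ext (by rw [Subgroup.coe_mul, h]; exact mul_self S.orderOf_B)
  have h1 := hkey ((w * w : S.cW) : G) ⟨(w * w).2, by
    rw [Subgroup.orderOf_coe]; exact Odd.of_dvd_nat hmodd (orderOf_dvd_of_pow_eq_one h2m), by
    show S.qW (w * w) ∈ N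
    rw [map_mul]; exact N.mul_mem hu hu⟩
  have hsq : S.qW w * S.qW w = 1 := by rw [← map_mul, show w * w = 1 from Subtype.ext h1, map_one]
  refine pow_of_sq_one ?_ hmodd
  rw [show (32 : ℕ) = 2 * 16 from rfl, pow_mul, pow_two, hsq, one_pow]

omit hN

/-- Conjugation in `C(B)` preserves the pair `a1M`, `a2M`. -/
theorem conj_a1 {g : G} (hg : g ∈ S.cW) :
    g * S.hom a1M * g⁻¹ = S.hom a1M ∨ g * S.hom a1M * g⁻¹ = S.hom a2M := by
  obtain ⟨N, hN⟩ := S.exists_core hF
  set a := S.A1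
  have h := hN.comm a ⟨g, hg⟩ rfl
  rw [S.core_eq_bot hF hN, Subgroup.mem_bot] at h
  have e : S.qW (⟨g, hg⟩ * a * (⟨g, hg⟩ : S.cW)⁻¹) = S.qW a := by
    simp only [map_mul, map_inv] at h ⊢
    rw [mul_inv_eq_one, mul_inv_eq_iff_eq_mul] at h
    rw [← h, mul_inv_cancel_right]
  rcases S.qW_eq_iff.1 e with h' | h'
  · exact Or.inl h'
  · exact Or.inr (h'.trans (by rw [← cent_rel.2.1, map_mul]; rfl))

end Emb

end CfsgLib.KGroups.PSpFourThree
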