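import Cfsg.Agent.Lib.KGroups.PSpFourThree.CentFacts

/-!
# Counts of pairs of involutions in the group of order 576
-/

set_option autoImplicit false
set_option maxRecDepth 40000

namespace CfsgLib.KGroups.PSpFourThree

/-- A power of the code among the first three is the code nine. -/
def hitsC (p : ℕ) : Bool :=
  Nat.beq p 9 || Nat.beq (mulN p p) 9 || Nat.beq (mulN (mulN p p) p) 9

/-- The powers of a code. -/
def powC (p : ℕ) : ℕ → ℕ
  | 0 => 0
  | n + 1 => mulN (powC p n) p

/-- A conjugate of the central involution by code. -/
def isT (x : ℕ) : Bool := Nat.beq x 9 || inMask maskA x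

/-- An involution of the second class by code. -/
def isB (x : ℕ) : Bool := inMask maskB x || inMask maskE x

theorem pow_check : All576 fun p => Nat.beq (powC p 12) 0 := by decide +kernel

theorem hits_check : All576 fun x => !isT x || (List.range 576).all fun y =>
    !isB y || ((List.range 12).all fun m => !Nat.beq (powC (mulN x y) m) 9 || hitsC (mulN x y)) := by decide +kernel

theorem pairs_count : (((List.range 576).filter fun x => isT x).map fun x =>
    ((List.range 576).filter fun y => isB y && hitsC (mulN x y)).length).sum = 108 := by decide +kernel

/-- An involution commuting with `eM` and not with `a1M`. -/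
def isOuter (x : ℕ) : Bool :=
  commC x 162 && Nat.beq (mulN x x) 0 && !Nat.beq x 0 && !commC x 485

theorem outer_count : ((List.range 576).filter fun x => isOuter x).length = 4 := by decide +kernel

theorem outer_check : All576 fun x => !isOuter x ||
    (isB x && !commC 72 x && !commC 387 x && !commC 485 x && !commC 575 x) := by decide +kernel

theorem five_pairs : All576 fun r => !isFive r || (List.range 576).all fun s => !isFive s ||
    !Nat.beq (mulN r 162) s || (Nat.beq r 485 || Nat.beq r 575) := by decide +kernel

theorem five_times : All576 fun r => !(Nat.beq r 9 || Nat.beq r 72 || Nat.beq r 387) || isB (mulN r 162) := by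
  decide +kernel

end CfsgLib.KGroups.PSpFourThree
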