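import Cfsg.Agent.Lib.KGroups.PSpFourThree.Core
import Cfsg.Agent.Lib.KGroups.PSpFourThree.CountFacts
import Cfsg.Agent.Lib.Involution.OrderFormula

/-!
# The order of the group
-/

set_option autoImplicit false
set_option maxRecDepth 40000
set_option linter.unusedSectionVars false
set_option linter.style.haveILetI false

namespace CfsgLib.KGroups.PSpFourThree

open C576 Subgroup CfsgLib.Involution.Dihedral
open CfsgLib.Involution.OrderFormula (Pairs)

attribute [local irreducible] mulN invN commC inMask conjC commutC pow16 isFive hitsC powC isT isB isOuter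

namespace C576

/-- A count of pairs of codes. -/
theorem card_pairs_code (f : ℕ → Bool) (h : ℕ → ℕ → Bool) :
    Nat.card {p : C576 × C576 // f p.1.code.val = true ∧ h p.1.code.val p.2.code.val = true} =
      (((List.range 576).filter f).map fun x => ((List.range 576).filter (h x)).length).sum := by
  classical
  have e : {p : C576 × C576 // f p.1.code.val = true ∧ h p.1.code.val p.2.code.val = true} ≃
      Σ x : {x : C576 // f x.code.val = true}, {y : C576 // h x.1.code.val y.code.val = true} :=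
    { toFun := fun p => ⟨⟨p.1.1, p.2.1⟩, ⟨p.1.2, p.2.2⟩⟩
      invFun := fun q => ⟨(q.1.1, q.2.1), q.1.2, q.2.2⟩
      left_inv := fun _ => rfl
      right_inv := fun _ => rfl }
  rw [Nat.card_congr e, Nat.card_sigma, ← List.sum_toFinset _ (List.nodup_range.filter _)]
  refine Finset.sum_bij (fun x _ => x.1.code.val) (fun x _ => by simp [x.1.code.2, x.2])
    (fun x _ y _ he => Subtype.ext (eq_iff.2 he)) (fun k hk => ?_) fun x _ => card_filter_code _
  simp only [List.mem_toFinset, List.mem_filter, List.mem_range] at hk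
  exact ⟨⟨⟨⟨k, hk.1⟩⟩, hk.2⟩, Finset.mem_univ _, rfl⟩

theorem code_pow (p : C576) (m : ℕ) : (p ^ m).code.val = powC p.code.val m := by
  induction m with
  | zero => rw [pow_zero, code_one, powC]
  | succ m ih => rw [pow_succ, code_mul, ih, powC]

theorem isT_iff {x : C576} : isT x.code.val = true ↔ (x = zM ∨ IsConj aM x) := by
  rw [tmask_iff, isT]

theorem isB_iff {x : C576} : isB x.code.val = true ↔ (IsConj bM x ∨ IsConj eM x) := by
  simp only [isB, Bool.or_eq_true, ← isConj_b, ← isConj_e]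

theorem hits_iff {x y : C576} (hx : isT x.code.val = true) (hy : isB y.code.val = true) :
    (∃ m : ℕ, (x * y) ^ m = zM) ↔ hitsC (x * y).code.val = true := by
  constructor
  · rintro ⟨m, hm⟩
    have h12 : (x * y) ^ 12 = 1 :=
      eq_iff.2 (by rw [code_pow, code_one]; exact Nat.eq_of_beq_eq_true (test pow_check (x * y)))
    rw [pow_eq_pow_mod m h12] at hm
    have h := test hits_check x
    rw [hx] at h
    simp only [Bool.not_true, Bool.false_or] at h
    have h' := test_range h y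
    rw [hy] at h'
    simp only [Bool.not_true, Bool.false_or] at h'
    have h2 := List.all_eq_true.1 h' (m % 12) (List.mem_range.2 (Nat.mod_lt _ (by norm_num)))
    rw [← code_mul, ← code_pow, hm, code_zM] at h2
    simpa using h2
  · intro h
    unfold hitsC at h
    simp only [Bool.or_eq_true, Nat.beq_eq] at h
    rcases h with (h | h) | h
    · exact ⟨1, eq_iff.2 (by rw [pow_one, h, code_zM])⟩
    · exact ⟨2, eq_iff.2 (by rw [pow_two, code_mul (x * y), h, code_zM])⟩
    · exact ⟨3, eq_iff.2 (by rw [pow_succ, pow_two, code_mul (x * y * (x * y)), code_mul (x * y), h, code_zM])⟩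

/-- The conjugates of the central involution conjugate to it in the centraliser of `B`. -/
def RR : Finset C576 := {zM, aM, ⟨387⟩}

theorem RR_facts {r : C576} (hr : r ∈ RR) : Five r ∧ r ≠ a1M ∧ r ≠ a2M ∧ (IsConj bM (r * eM) ∨ IsConj eM (r * eM)) := by
  simp only [RR, Finset.mem_insert, Finset.mem_singleton] at hr
  have h0 : Five r ∧ r ≠ a1M ∧ r ≠ a2M := by
    rcases hr with rfl | rfl | rfl <;> refine ⟨?_, by decide +kernel, by decide +kernel⟩ <;>
      (rw [Five]; decide +kernel)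
  refine ⟨h0.1, h0.2.1, h0.2.2, isB_iff.1 ?_⟩
  rcases hr with rfl | rfl | rfl <;> decide +kernel

theorem five_split {q : C576} (hq : Five q) : q ∈ RR ∨ q = a1M ∨ q = a2M := by
  have h : isFive q.code.val = true := hq
  unfold isFive at h
  simp only [Bool.or_eq_true, Nat.beq_eq] at h
  simp only [RR, Finset.mem_insert, Finset.mem_singleton, eq_iff]
  rcases h with (((e | e) | e) | e) | e
  exacts [Or.inl (Or.inl e), Or.inl (Or.inr (Or.inl e)), Or.inl (Or.inr (Or.inr e)), Or.inr (Or.inl e),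
    Or.inr (Or.inr e)]

theorem card_RR : RR.card = 3 := by decide +kernel

theorem RR_mul_e {r s : C576} (hr : Five r) (hs : Five s) (h : r * eM = s) : r = a1M ∨ r = a2M := by
  have h1 := test five_pairs r
  rw [show isFive r.code.val = true from hr] at h1
  simp only [Bool.not_true, Bool.false_or] at h1
  have h2 := test_range h1 s
  rw [show isFive s.code.val = true from hs, ← h, code_mul, code_eM] at h2
  simp only [Bool.not_true, Bool.false_or, Nat.beq_refl, Bool.or_eq_true, Nat.beq_eq] at h2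
  simpa [eq_iff, code_a1M, code_a2M] using h2

theorem outer_facts {y : C576} (hy : isOuter y.code.val = true) :
    Commute y eM ∧ orderOf y = 2 ∧ ¬ Commute y a1M ∧ (IsConj bM y ∨ IsConj eM y) ∧
      ∀ r, Five r → Commute r y → r = zM := by
  have h1 := hy
  simp only [isOuter, Bool.and_eq_true, Bool.not_eq_true', Nat.beq_eq] at h1
  obtain ⟨⟨⟨hc, h2⟩, h0⟩, ha⟩ := h1
  have h := test outer_check y
  rw [hy] at h
  simp only [Bool.not_true, Bool.false_or, Bool.and_eq_true, Bool.not_eq_true'] at h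
  refine ⟨commute_iff.2 hc, orderOf_eq_two (eq_iff.2 h2) (fun e => ?_), fun hh => ?_, isB_iff.1 h.1.1.1.1,
    fun r hr hh => ?_⟩
  · rw [e, code_one] at h0; simp at h0
  · have h' := commute_iff.1 hh
    rw [code_a1M] at h'
    rw [h'] at ha; simp at ha
  · have h5 : isFive r.code.val = true := hr
    unfold isFive at h5
    simp only [Bool.or_eq_true, Nat.beq_eq] at h5
    have hh' := commute_iff.1 hh
    rcases h5 with (((e | e) | e) | e) | e
    · exact eq_iff.2 e
    all_goals (rw [e] at hh'; simp_all)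

theorem outer_of {y : C576} (hc : Commute y eM) (h2 : orderOf y = 2) (ha : ¬ Commute y a1M) :
    isOuter y.code.val = true := by
  simp only [isOuter, Bool.and_eq_true, Bool.not_eq_true', Nat.beq_eq]
  refine ⟨⟨⟨commute_iff.1 hc, by rw [← code_mul, mul_self h2, code_one]⟩, ?_⟩, ?_⟩
  · refine Bool.eq_false_iff.2 fun h => ne_one h2 (eq_iff.2 (by rw [Nat.eq_of_beq_eq_true h, code_one]))
  · exact Bool.eq_false_iff.2 fun h => ha (commute_iff.2 h)

end C576

namespace Emb

variable {G : Type*} [Group G] [Finite G] (S : Emb G) (hF : Fused S)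
include hF

theorem a2_eq : S.hom a2M = S.hom a1M * S.B := by rw [← cent_rel.2.1, map_mul]; rfl

theorem conj_commute_a1 {g x : G} (hg : g ∈ S.cW) (hx : x ∈ S.cW) (h : Commute x (S.hom a1M)) :
    Commute (g * x * g⁻¹) (S.hom a1M) := by
  have h1 := (commute_conj_iff g).2 h
  rcases S.conj_a1 hF hg with e | e <;> rw [e] at h1
  · exact h1
  · exact S.commute_a1_of_a2 hF (S.cW.mul_mem (S.cW.mul_mem hg hx) (S.cW.inv_mem hg)) h1

/-- The conjugates of `t` commuting with `B` are the five. -/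
theorem five_of_mem {x : G} (hx : IsConj S.t x) (hB : x ∈ S.cW) : ∃ q, Five q ∧ S.hom q = x := by
  obtain ⟨k, hk, q, hq, hqe⟩ := S.exists_five hF hx hB
  refine S.five_of_commute hF hx hB ?_
  have h := S.conj_commute_a1 hF (S.cW.inv_mem hk) (S.mem_cW_of_five hF hq) ((five_facts hq).2.2.2.1.map S.hom)
  rwa [hqe, show k⁻¹ * (k * x * k⁻¹) * k⁻¹⁻¹ = x by group] at h

theorem commute_of_mem {x y : G} (hx : IsConj S.t x) (hxB : x ∈ S.cW) (hy : IsConj S.t y) (hyB : y ∈ S.cW) :
    Commute x y := by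
  obtain ⟨q, hq, rfl⟩ := S.five_of_mem hF hx hxB
  obtain ⟨p, hp, rfl⟩ := S.five_of_mem hF hy hyB
  exact ((five_facts hq).2.2.2.2 p hp).map S.hom

theorem card_cB : Nat.card S.cW = 96 := by
  set W1 := S.cW ⊓ centralizer ({S.hom a1M} : Set G)
  obtain ⟨h, h1, h2⟩ := S.exists_frame hF
  have hW1 : Nat.card W1 = 48 := by
    show Nat.card ↥(centralizer ({S.B} : Set G) ⊓ centralizer ({S.hom a1M} : Set G)) = 48
    rw [← h1, ← h2, card_inf_conj, inf_comm, S.card_cent_inf, card_cent_b]
  set sw : C576 := ⟨18⟩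
  have hsw : Commute sw eM ∧ sw * a1M * sw⁻¹ = a2M :=
    ⟨commute_iff.2 (by decide +kernel), by decide +kernel⟩
  have hne : a1M ≠ a2M := by decide +kernel
  have ha2 : S.hom a2M * S.B = S.hom a1M := by
    rw [S.a2_eq hF, mul_assoc, mul_self S.orderOf_B, mul_one]
  have hsw' : S.hom sw * S.hom a1M * (S.hom sw)⁻¹ = S.hom a2M := by rw [← map_inv, ← map_mul, ← map_mul, hsw.2]
  have hidx : (W1.subgroupOf S.cW).index = 2 := by
    refine Subgroup.index_eq_two_iff.2 ⟨⟨S.hom sw, S.hom_mem_cW hsw.1⟩, fun b => ?_⟩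
    have hiff : ∀ g : S.cW, g ∈ W1.subgroupOf S.cW ↔ (g : G) * S.hom a1M * (g : G)⁻¹ = S.hom a1M := fun g => by
      rw [Subgroup.mem_subgroupOf, Subgroup.mem_inf, mem_centralizer_singleton_iff, mul_inv_eq_iff_eq_mul]
      exact ⟨fun h => h.2, fun h => ⟨g.2, h⟩⟩
    rw [hiff, hiff]
    have e : ((b * ⟨S.hom sw, S.hom_mem_cW hsw.1⟩ : S.cW) : G) * S.hom a1M *
        ((b * ⟨S.hom sw, S.hom_mem_cW hsw.1⟩ : S.cW) : G)⁻¹ = (b : G) * S.hom a1M * (b : G)⁻¹ * S.B := by
      show (b : G) * S.hom sw * S.hom a1M * ((b : G) * S.hom sw)⁻¹ = _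
      calc _ = (b : G) * (S.hom sw * S.hom a1M * (S.hom sw)⁻¹) * (b : G)⁻¹ := by group
        _ = (b : G) * S.hom a1M * (S.B * (b : G)⁻¹) := by rw [hsw', S.a2_eq hF]; group
        _ = _ := by rw [(S.mem_cW.1 b.2).inv_left.eq.symm]; group
    rw [e]
    rcases S.conj_a1 hF b.2 with h | h <;> rw [h]
    · exact Or.inr ⟨rfl, fun h' => hne (S.inj (h'.symm.trans (S.a2_eq hF).symm))⟩
    · exact Or.inl ⟨ha2, fun h' => hne (S.inj h'.symm)⟩
  have h := (W1.subgroupOf S.cW).card_mul_index
  rw [hidx, Nat.card_congr (Subgroup.subgroupOfEquivOfLe (inf_le_left : W1 ≤ S.cW)).toEquiv, hW1] at h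
  omega

theorem card_pairs_t : Nat.card (Pairs S.t S.B S.t) = 108 := by
  rw [← pairs_count, ← C576.card_pairs_code]
  have hfw : ∀ p : {p : C576 × C576 // isT p.1.code.val = true ∧
      (isB p.2.code.val && hitsC (mulN p.1.code.val p.2.code.val)) = true},
      ((S.hom p.1.1, S.hom p.1.2) : G × G) ∈ Pairs S.t S.B S.t := by
    rintro ⟨⟨x, y⟩, hx, h⟩
    simp only [Bool.and_eq_true] at h
    obtain ⟨m, hm⟩ := (C576.hits_iff hx h.1).2 (by rw [code_mul]; exact h.2)
    exact ⟨(S.conj_t_iff hF).2 (isT_iff.1 hx), (S.conj_B_iff hF).2 (isB_iff.1 h.1),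
      m, by rw [← map_mul, ← map_pow, hm, S.map_z]⟩
  refine (Nat.card_congr (Equiv.ofBijective (fun p => (⟨_, hfw p⟩ : Pairs S.t S.B S.t)) ⟨?_, ?_⟩)).symm
  · rintro ⟨⟨x, y⟩, _⟩ ⟨⟨x', y'⟩, _⟩ e
    have e' := congrArg Subtype.val e
    simp only [Prod.mk.injEq] at e'
    exact Subtype.ext (Prod.ext (S.inj e'.1) (S.inj e'.2))
  rintro ⟨⟨u, v⟩, hu, hv, m, hm⟩
  change IsConj S.t u at hu
  change IsConj S.B v at hv
  change (u * v) ^ m = S.t at hm
  have huo : orderOf u = 2 := (orderOf_conj_eq hu).trans S.orderOf_t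
  have hvo : orderOf v = 2 := (orderOf_conj_eq hv).trans S.orderOf_B
  have hev : Even (orderOf (u * v)) :=
    even_of_not_isConj huo hvo fun e => hF.not_te ((hu.trans e).trans hv.symm)
  have hhalf := CfsgLib.Involution.OrderFormula.eq_half S.orderOf_t hm
  obtain ⟨x, rfl⟩ := S.exists_pre (show Commute u S.t by rw [← hhalf]; exact (half_commute_left huo hvo hev).symm)
  obtain ⟨y, rfl⟩ := S.exists_pre (show Commute v S.t by rw [← hhalf]; exact (half_commute_right huo hvo hev).symm)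
  have hx := isT_iff.2 ((S.conj_t_iff hF).1 hu)
  have hy := isB_iff.2 ((S.conj_B_iff hF).1 hv)
  refine ⟨⟨(x, y), hx, Bool.and_eq_true_iff.2 ⟨hy, ?_⟩⟩, rfl⟩
  rw [← code_mul]
  refine (C576.hits_iff hx hy).1 ⟨m, S.inj ?_⟩
  rw [map_pow, map_mul, hm, S.map_z]

/-- Involutions of the second class in `C(B)` outside the centraliser of `a1M`. -/
def Outer : Set G := {y | IsConj S.B y ∧ y ∈ S.cW ∧ ¬ Commute y (S.hom a1M)}

theorem exists_to_R {r : C576} (hr : r ∈ RR) : ∃ g ∈ S.cW, g * S.t * g⁻¹ = S.hom r := by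
  rcases S.five_cases hF (RR_facts hr).1 with e | e | h
  exacts [absurd e (RR_facts hr).2.1, absurd e (RR_facts hr).2.2.1, h]

theorem outer_conj {g y : G} (hg : g ∈ S.cW) (hy : y ∈ S.Outer) : g * y * g⁻¹ ∈ S.Outer := by
  have hm : g * y * g⁻¹ ∈ S.cW := S.cW.mul_mem (S.cW.mul_mem hg hy.2.1) (S.cW.inv_mem hg)
  refine ⟨hy.1.trans (isConj_iff.2 ⟨g, rfl⟩), hm, fun h => hy.2.2 ?_⟩
  have := S.conj_commute_a1 hF (S.cW.inv_mem hg) hm h
  rwa [show g⁻¹ * (g * y * g⁻¹) * g⁻¹⁻¹ = y by group] at this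

theorem outer_pre {y : G} (hy : y ∈ S.Outer) (ht : Commute y S.t) :
    ∃ q : C576, isOuter q.code.val = true ∧ S.hom q = y := by
  obtain ⟨q, hq, rfl⟩ := S.mem_cE hy.2.1 ht
  exact ⟨q, outer_of hq (by rw [← S.orderOf_hom, orderOf_conj_eq hy.1, S.orderOf_B])
    fun h => hy.2.2 (h.map S.hom), rfl⟩

theorem conj_five {y : G} (hy : y ∈ S.cW) {r : C576} (hr : Five r) :
    ∃ r', Five r' ∧ S.hom r' = y * S.hom r * y⁻¹ :=
  S.five_of_mem hF ((S.conj_t_five hF hr).trans (isConj_iff.2 ⟨y, rfl⟩))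
    (S.cW.mul_mem (S.cW.mul_mem hy (S.mem_cW_of_five hF hr)) (S.cW.inv_mem hy))

theorem conj_RR {y : G} (hy : y ∈ S.cW) {r : C576} (hr : r ∈ RR) :
    ∃ r' ∈ RR, S.hom r' = y * S.hom r * y⁻¹ := by
  obtain ⟨r', hr', e⟩ := S.conj_five hF hy (RR_facts hr).1
  rcases five_split hr' with h | h
  · exact ⟨r', h, e⟩
  exfalso
  have hback : S.hom r = y⁻¹ * S.hom r' * y⁻¹⁻¹ := by rw [e]; group
  rcases h with rfl | rfl
  · rcases S.conj_a1 hF (S.cW.inv_mem hy) with h | h <;> rw [← hback] at h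
    exacts [(RR_facts hr).2.1 (S.inj h), (RR_facts hr).2.2.1 (S.inj h)]
  · have hB : y⁻¹ * S.hom a2M * y⁻¹⁻¹ = y⁻¹ * S.hom a1M * y⁻¹⁻¹ * S.B := by
      rw [S.a2_eq hF, inv_inv, mul_assoc (y⁻¹ * S.hom a1M), (S.mem_cW.1 hy).eq]; group
    rw [hB] at hback
    rcases S.conj_a1 hF (S.cW.inv_mem hy) with h | h <;> rw [h] at hback
    · exact (RR_facts hr).2.2.1 (S.inj (hback.trans (S.a2_eq hF).symm))
    · rw [S.a2_eq hF, mul_assoc, mul_self S.orderOf_B, mul_one] at hback
      exact (RR_facts hr).2.1 (S.inj hback)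

/-- Each such involution centralises exactly one of the three conjugates of `t`. -/
theorem outer_fix {y : G} (hy : y ∈ S.Outer) : ∃! r : {r // r ∈ RR}, Commute y (S.hom r.1) := by
  classical
  choose f hf hfe using fun r : {r // r ∈ RR} => S.conj_RR hF hy.2.1 r.2
  let F : {r // r ∈ RR} → {r // r ∈ RR} := fun r => ⟨f r, hf r⟩
  have hyo : y * y = 1 := mul_self ((orderOf_conj_eq hy.1).trans S.orderOf_B)
  have hF2 : ∀ r, F (F r) = r := fun r => Subtype.ext (S.inj (by
    show S.hom (f ⟨f r, hf r⟩) = _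
    rw [hfe, hfe r]
    calc y * (y * S.hom r.1 * y⁻¹) * y⁻¹ = y * y * S.hom r.1 * (y * y)⁻¹ := by group
      _ = S.hom r.1 := by rw [hyo]; simp))
  obtain ⟨r, hr⟩ : ∃ r, F r = r := by
    have h := Equiv.Perm.exists_fixed_point_of_prime (p := 2) (α := {r // r ∈ RR}) (n := 1)
      (by rw [Fintype.card_coe, card_RR]; norm_num) (σ := Function.Involutive.toPerm F hF2)
      (Equiv.ext fun r => by
        simp only [pow_one, pow_two, Equiv.Perm.mul_apply, Equiv.Perm.one_apply]
        exact hF2 r)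
    exact h
  have hc : ∀ s, F s = s → Commute y (S.hom s.1) := fun s hs => by
    have := hfe s
    rw [show f s = s.1 from congrArg Subtype.val hs] at this
    exact (mul_inv_eq_iff_eq_mul.1 this.symm)
  refine ⟨r, hc r hr, fun s hs => ?_⟩
  obtain ⟨g, hg, hge⟩ := S.exists_to_R hF r.2
  obtain ⟨q, hq, hqe⟩ := S.outer_pre hF (S.outer_conj hF (S.cW.inv_mem hg) hy) (by
    rw [← commute_conj_iff g, hge]
    simpa [mul_assoc] using hc r hr)
  obtain ⟨s', hs', hs'e⟩ := S.conj_five hF (S.cW.inv_mem hg) (RR_facts s.2).1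
  have he : s' = zM := (outer_facts hq).2.2.2.2 s' hs' (by
    rw [← S.commute_hom_iff, hqe, hs'e]
    exact ((commute_conj_iff g⁻¹).2 hs).symm)
  refine Subtype.ext (S.inj ?_)
  rw [he, S.map_z] at hs'e
  rw [← hge, hs'e]
  group

theorem card_outer : Nat.card S.Outer = 12 := by
  classical
  choose f hf hu using fun y : S.Outer => S.outer_fix hF y.2
  have hfib : ∀ r : {r // r ∈ RR}, Nat.card {y : S.Outer // f y = r} = 4 := by
    intro r
    obtain ⟨g, hg, hge⟩ := S.exists_to_R hF r.2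
    rw [← outer_count, ← C576.card_filter_code]
    have hmem : ∀ q : {q : C576 // isOuter q.code.val = true}, g * S.hom q.1 * g⁻¹ ∈ S.Outer := fun q =>
      S.outer_conj hF hg ⟨(S.conj_B_iff hF).2 (outer_facts q.2).2.2.2.1, S.hom_mem_cW (outer_facts q.2).1,
        fun h => (outer_facts q.2).2.2.1 (S.commute_hom_iff.1 h)⟩
    have hfr : ∀ q, f ⟨_, hmem q⟩ = r := fun q => (hu _ r (by
      show Commute (g * S.hom q.1 * g⁻¹) (S.hom r.1)
      rw [← hge, commute_conj_iff]; exact S.commute_t q.1)).symm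
    refine (Nat.card_congr (Equiv.ofBijective (fun q => (⟨⟨_, hmem q⟩, hfr q⟩ : {y : S.Outer // f y = r}))
      ⟨?_, ?_⟩)).symm
    · intro a b e
      exact Subtype.ext (S.inj (mul_left_cancel (mul_right_cancel (congrArg (fun z => (z.1.1 : G)) e))))
    · rintro ⟨⟨y, hy⟩, hyr⟩
      have hc := hf ⟨y, hy⟩
      rw [hyr] at hc
      obtain ⟨q, hq, hqe⟩ := S.outer_pre hF (S.outer_conj hF (S.cW.inv_mem hg) hy) (by
        rw [← commute_conj_iff g, hge]
        simpa [mul_assoc] using hc)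
      refine ⟨⟨q, hq⟩, Subtype.ext (Subtype.ext ?_)⟩
      show g * S.hom q * g⁻¹ = y
      rw [hqe]; group
  rw [← Nat.card_congr (Equiv.sigmaFiberEquiv f), Nat.card_sigma, Finset.sum_congr rfl fun r _ => hfib r,
    Finset.sum_const, Finset.card_univ, Fintype.card_coe, card_RR, smul_eq_mul]

theorem card_pairs_B : Nat.card (Pairs S.t S.B S.B) = 27 := by
  classical
  let g : {r // r ∈ RR} ⊕ S.Outer × Bool → G × G := fun p => match p with
    | Sum.inl r => (S.hom r.1, S.hom (r.1 * eM))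
    | Sum.inr (y, b) => (S.hom (if b then a1M else a2M), y.1)
  have hmove : ∀ {y : G}, y ∈ S.Outer → ∀ b : Bool,
      y * S.hom (if b then a1M else a2M) * y⁻¹ = S.hom (if b then a1M else a2M) * S.B := by
    intro y hy b
    have h1 : y * S.hom a1M * y⁻¹ = S.hom a2M := by
      rcases S.conj_a1 hF hy.2.1 with e | e
      · exact absurd (mul_inv_eq_iff_eq_mul.1 e) hy.2.2
      · exact e
    cases b
    · show y * S.hom a2M * y⁻¹ = S.hom a2M * S.B
      rw [S.a2_eq hF, show y * (S.hom a1M * S.B) * y⁻¹ = y * S.hom a1M * y⁻¹ * (y * S.B * y⁻¹) by group, h1,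
        (S.mem_cW.1 hy.2.1).eq, mul_inv_cancel_right, S.a2_eq hF]
    · show y * S.hom a1M * y⁻¹ = S.hom a1M * S.B
      rw [h1, S.a2_eq hF]
  have hfive : ∀ b : Bool, Five (if b then a1M else a2M) := fun b => by
    cases b
    exacts [cent_rel.2.2.2.2.2.2.2.2.2.2.2.2, cent_rel.2.2.2.2.2.2.2.2.2.2.2.1]
  have hfw : ∀ p, g p ∈ Pairs S.t S.B S.B := by
    rintro (r | ⟨y, b⟩)
    · refine ⟨S.conj_t_five hF (RR_facts r.2).1, (S.conj_B_iff hF).2 (RR_facts r.2).2.2.2, 1, ?_⟩
      show (S.hom r.1 * S.hom (r.1 * eM)) ^ 1 = S.B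
      rw [pow_one, map_mul, ← mul_assoc,
        mul_self ((orderOf_conj_eq (S.conj_t_five hF (RR_facts r.2).1)).trans S.orderOf_t), one_mul]
      rfl
    · refine ⟨S.conj_t_five hF (hfive b), y.2.1, 2, ?_⟩
      set x := S.hom (if b then a1M else a2M)
      have hx : x * x = 1 := mul_self ((orderOf_conj_eq (S.conj_t_five hF (hfive b))).trans S.orderOf_t)
      show (x * y.1) ^ 2 = S.B
      rw [pow_two, show x * y.1 * (x * y.1) = x * (y.1 * x * y.1⁻¹) * (y.1 * y.1) by group, hmove y.2 b,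
        mul_self ((orderOf_conj_eq y.2.1).trans S.orderOf_B), mul_one, ← mul_assoc, hx, one_mul]
  have hcard : Nat.card ({r // r ∈ RR} ⊕ S.Outer × Bool) = 27 := by
    rw [Nat.card_sum, Nat.card_prod, S.card_outer hF, Nat.card_eq_fintype_card (α := Bool), Fintype.card_bool,
      Nat.card_eq_fintype_card, Fintype.card_coe, card_RR]
  rw [← hcard]
  refine (Nat.card_congr (Equiv.ofBijective (fun p => (⟨g p, hfw p⟩ : Pairs S.t S.B S.B)) ⟨?_, ?_⟩)).symm
  · rintro (r | ⟨y, b⟩) (r' | ⟨y', b'⟩) e <;> have e' := congrArg Subtype.val e <;>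
      simp only [g, Prod.mk.injEq] at e'
    · exact congrArg Sum.inl (Subtype.ext (S.inj e'.1))
    · exfalso
      cases b'
      exacts [(RR_facts r.2).2.2.1 (S.inj e'.1), (RR_facts r.2).2.1 (S.inj e'.1)]
    · exfalso
      cases b
      exacts [(RR_facts r'.2).2.2.1 (S.inj e'.1).symm, (RR_facts r'.2).2.1 (S.inj e'.1).symm]
    · have hb : b = b' := by
        have hne : a1M ≠ a2M := by decide +kernel
        have := S.inj e'.1
        cases b <;> cases b' <;> first | rfl | exact absurd this hne | exact absurd this.symm hne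
      exact congrArg Sum.inr (Prod.ext (Subtype.ext e'.2) hb)
  rintro ⟨⟨u, v⟩, hu, hv, m, hm⟩
  change IsConj S.t u at hu
  change IsConj S.B v at hv
  change (u * v) ^ m = S.B at hm
  have huo : orderOf u = 2 := (orderOf_conj_eq hu).trans S.orderOf_t
  have hvo : orderOf v = 2 := (orderOf_conj_eq hv).trans S.orderOf_B
  have hev : Even (orderOf (u * v)) :=
    even_of_not_isConj huo hvo fun e => hF.not_te ((hu.trans e).trans hv.symm)
  have hhalf := CfsgLib.Involution.OrderFormula.eq_half S.orderOf_B hm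
  have huW : u ∈ S.cW := S.mem_cW.2 (by rw [← hhalf]; exact (half_commute_left huo hvo hev).symm)
  have hvW : v ∈ S.cW := S.mem_cW.2 (by rw [← hhalf]; exact (half_commute_right huo hvo hev).symm)
  obtain ⟨q, hq, rfl⟩ := S.five_of_mem hF hu huW
  obtain ⟨q', hq', hq'e⟩ := S.conj_five hF hvW hq
  have huu := mul_self huo
  have hvv := mul_self hvo
  set w := v * S.hom q * v⁻¹ with hw
  have hww : w * w = 1 := by rw [hw]; rw [show v * S.hom q * v⁻¹ * (v * S.hom q * v⁻¹) = v * (S.hom q * S.hom q) * v⁻¹ by group, huu]; group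
  have hcw : Commute (S.hom q) w := by rw [← hq'e]; exact ((five_facts hq).2.2.2.2 q' hq').map S.hom
  have h2 : (S.hom q * v) ^ 2 = S.hom q * w := by
    rw [pow_two, show S.hom q * v * (S.hom q * v) = S.hom q * w * (v * v) by rw [hw]; group, hvv, mul_one]
  have h4 : (S.hom q * v) ^ 4 = 1 := by
    rw [show (4 : ℕ) = 2 * 2 from rfl, pow_mul, h2, pow_two, hcw.symm.mul_mul_mul_comm, huu, hww, one_mul]
  rcases Nat.lt_or_ge 1 (orderOf (S.hom q * v)) with ho | ho
  swap
  · exfalso
    have h1 : S.hom q * v = 1 := orderOf_eq_one_iff.1 (le_antisymm ho (orderOf_pos _))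
    rw [h1, one_pow] at hm
    exact ne_one S.orderOf_B hm.symm
  obtain ⟨k, hk, hko⟩ := (Nat.dvd_prime_pow Nat.prime_two).1
    (show orderOf (S.hom q * v) ∣ 2 ^ 2 from orderOf_dvd_of_pow_eq_one h4)
  rw [hko] at hhalf ho
  interval_cases k
  · simp at ho
  · have hv' : v = S.hom (q * eM) := by
      have e : S.hom q * v = S.B := by simpa using hhalf
      rw [map_mul, show S.hom eM = S.B from rfl, ← e, ← mul_assoc, huu, one_mul]
    rcases five_split hq with h | h
    · exact ⟨Sum.inl ⟨q, h⟩, Subtype.ext (Prod.ext rfl hv'.symm)⟩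
    · exfalso
      refine hF.not_te (IsConj.trans (?_ : IsConj S.t v) hv.symm)
      rw [hv']
      rcases h with rfl | rfl
      · rw [cent_rel.2.1]
        exact S.conj_t_five hF cent_rel.2.2.2.2.2.2.2.2.2.2.2.2
      · rw [show a2M * eM = a1M by decide +kernel]
        exact S.conj_t_five hF cent_rel.2.2.2.2.2.2.2.2.2.2.2.1
  · have e : S.hom q * w = S.B := by rw [← h2]; simpa using hhalf
    have hw' : S.hom q' = S.hom (q * eM) := by
      rw [hq'e, map_mul, show S.hom eM = S.B from rfl, ← e, ← mul_assoc, huu, one_mul]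
    have hne : ¬ Commute v (S.hom a1M) := by
      intro hc
      have hcq : Commute v (S.hom q) := by
        rcases RR_mul_e hq hq' (S.inj hw').symm with rfl | rfl
        · exact hc
        · rw [S.a2_eq hF]; exact hc.mul_right (S.mem_cW.1 hvW)
      rw [hw, hcq.eq, mul_inv_cancel_right, huu] at e
      exact ne_one S.orderOf_B e.symm
    rcases RR_mul_e hq hq' (S.inj hw').symm with rfl | rfl
    · exact ⟨Sum.inr (⟨v, hv, hvW, hne⟩, true), rfl⟩
    · exact ⟨Sum.inr (⟨v, hv, hvW, hne⟩, false), rfl⟩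

/-- The order of the group. -/
theorem card_eq : Nat.card G = 25920 := by
  rw [CfsgLib.Involution.OrderFormula.card_eq S.t S.B S.orderOf_t S.orderOf_B hF.not_te
    (fun x hx => S.two_classes hF hx), S.card_pairs_t hF, S.card_pairs_B hF, S.card_cent_t,
    show Nat.card (centralizer ({S.B} : Set G)) = 96 from S.card_cB hF]

end Emb

end CfsgLib.KGroups.PSpFourThree
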