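import Cfsg.Agent.Lib.KGroups.PSpFourThree.Facts
import Cfsg.Agent.Lib.Char.Perm

/-!
# The group of order 576: classes of involutions and distinguished subgroups
-/

set_option autoImplicit false
set_option maxRecDepth 40000

namespace CfsgLib.KGroups.PSpFourThree.C576

/-- The central involution. -/
def zM : C576 := ⟨9⟩
/-- An involution with centraliser of order 48. -/
def aM : C576 := ⟨72⟩
/-- The product of `zM` and `aM`. -/
def bM : C576 := ⟨81⟩
/-- An involution with centraliser of order 32. -/
def eM : C576 := ⟨162⟩

theorem code_mul (x y : C576) : (x * y).code.val = mulN x.code.val y.code.val := rfl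
theorem code_inv (x : C576) : x⁻¹.code.val = invN x.code.val := rfl
theorem code_one : (1 : C576).code.val = 0 := rfl
theorem code_conj (h x : C576) : (h * x * h⁻¹).code.val = conjC h.code.val x.code.val := rfl
theorem code_commutator (p q : C576) : (p⁻¹ * q⁻¹ * (p * q)).code.val = commutC p.code.val q.code.val := rfl

theorem code_zM : zM.code.val = 9 := rfl
theorem code_aM : aM.code.val = 72 := rfl
theorem code_bM : bM.code.val = 81 := rfl
theorem code_eM : eM.code.val = 162 := rfl

attribute [local irreducible] mulN invN commC inMask conjC commutC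

theorem eq_iff {x y : C576} : x = y ↔ x.code.val = y.code.val :=
  ⟨fun h => h ▸ rfl, fun h => equivFin.injective (Fin.ext h)⟩

theorem test {f : ℕ → Bool} (h : All576 f) (x : C576) : f x.code.val = true :=
  List.all_eq_true.1 h _ (List.mem_range.2 x.code.2)

theorem test_range {f : ℕ → Bool} (h : (List.range 576).all f = true) (x : C576) : f x.code.val = true :=
  test h x

theorem exists_of_any {f : ℕ → Bool} (h : (List.range 576).any f = true) : ∃ x : C576, f x.code.val = true := by
  obtain ⟨k, hk, hf⟩ := List.any_eq_true.1 h
  exact ⟨⟨⟨k, List.mem_range.1 hk⟩⟩, hf⟩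

theorem commute_iff {x y : C576} : Commute x y ↔ commC x.code.val y.code.val = true := by
  rw [Commute, SemiconjBy, eq_iff, code_mul, code_mul, commC, Nat.beq_eq]

theorem isConj_a {x : C576} : IsConj aM x ↔ inMask maskA x.code.val = true := by
  constructor
  · intro h
    obtain ⟨g, rfl⟩ := isConj_iff.1 h
    have := test class_closed g
    simp only [Bool.and_eq_true] at this
    rw [code_conj, code_aM]
    exact this.1.1
  · intro h
    have := test class_witness x
    simp only [Bool.and_eq_true] at this
    have h1 := this.1.1
    rw [h] at h1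
    simp only [Bool.not_true, Bool.false_or] at h1
    obtain ⟨g, hg⟩ := exists_of_any h1
    exact isConj_iff.2 ⟨g, eq_iff.2 (by rw [code_conj, code_aM]; exact Nat.eq_of_beq_eq_true hg)⟩

theorem isConj_b {x : C576} : IsConj bM x ↔ inMask maskB x.code.val = true := by
  constructor
  · intro h
    obtain ⟨g, rfl⟩ := isConj_iff.1 h
    have := test class_closed g
    simp only [Bool.and_eq_true] at this
    rw [code_conj, code_bM]
    exact this.1.2
  · intro h
    have := test class_witness x
    simp only [Bool.and_eq_true] at this
    have h1 := this.1.2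
    rw [h] at h1
    simp only [Bool.not_true, Bool.false_or] at h1
    obtain ⟨g, hg⟩ := exists_of_any h1
    exact isConj_iff.2 ⟨g, eq_iff.2 (by rw [code_conj, code_bM]; exact Nat.eq_of_beq_eq_true hg)⟩

theorem isConj_e {x : C576} : IsConj eM x ↔ inMask maskE x.code.val = true := by
  constructor
  · intro h
    obtain ⟨g, rfl⟩ := isConj_iff.1 h
    have := test class_closed g
    simp only [Bool.and_eq_true] at this
    rw [code_conj, code_eM]
    exact this.2
  · intro h
    have := test class_witness x
    simp only [Bool.and_eq_true] at this
    have h1 := this.2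
    rw [h] at h1
    simp only [Bool.not_true, Bool.false_or] at h1
    obtain ⟨g, hg⟩ := exists_of_any h1
    exact isConj_iff.2 ⟨g, eq_iff.2 (by rw [code_conj, code_eM]; exact Nat.eq_of_beq_eq_true hg)⟩

theorem sq_cases {x : C576} (hx : x * x = 1) :
    x = 1 ∨ x = zM ∨ IsConj aM x ∨ IsConj bM x ∨ IsConj eM x := by
  have h := test invol_check x
  rw [← code_mul, hx] at h
  simp only [Bool.or_eq_true, Bool.not_eq_true', Nat.beq_eq] at h
  rw [isConj_a, isConj_b, isConj_e, eq_iff, eq_iff]
  rcases h with ((((h | h) | h) | h) | h) | h
  · exact absurd h (by rw [code_one]; decide)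
  · exact Or.inl h
  · exact Or.inr (Or.inl h)
  · exact Or.inr (Or.inr (Or.inl h))
  · exact Or.inr (Or.inr (Or.inr (Or.inl h)))
  · exact Or.inr (Or.inr (Or.inr (Or.inr h)))

theorem zM_central (x : C576) : Commute x zM := commute_iff.2 (test central_check x)

theorem card_filter_code (f : ℕ → Bool) :
    Nat.card {x : C576 // f x.code.val = true} = ((List.range 576).filter f).length := by
  classical
  have hn : ((List.range 576).filter f).Nodup := List.nodup_range.filter _
  rw [← List.toFinset_card_of_nodup hn, ← Nat.card_eq_finsetCard]
  refine Nat.card_congr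
    { toFun := fun x => ⟨x.1.code.val, by simp [x.1.code.2, x.2]⟩
      invFun := fun k => ⟨⟨⟨k.1, by have := k.2; simp at this; exact this.1⟩⟩, by
        have := k.2; simp at this; exact this.2⟩
      left_inv := fun x => rfl
      right_inv := fun k => rfl }

theorem card_cent {x : C576} :
    Nat.card (Subgroup.centralizer ({x} : Set C576)) =
      ((List.range 576).filter fun h => commC h x.code.val).length := by
  rw [← card_filter_code]
  exact Nat.card_congr (Equiv.subtypeEquivRight fun y =>
    Subgroup.mem_centralizer_singleton_iff.trans (commute_iff (x := y) (y := x)))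

theorem card_cent_a : Nat.card (Subgroup.centralizer ({aM} : Set C576)) = 48 :=
  card_cent.trans cent_counts.1

theorem card_cent_b : Nat.card (Subgroup.centralizer ({bM} : Set C576)) = 48 :=
  card_cent.trans cent_counts.2.1

theorem card_cent_e : Nat.card (Subgroup.centralizer ({eM} : Set C576)) = 32 :=
  card_cent.trans cent_counts.2.2

theorem card_cent_conj {x y : C576} (h : IsConj x y) :
    Nat.card (Subgroup.centralizer ({y} : Set C576)) = Nat.card (Subgroup.centralizer ({x} : Set C576)) :=
  (CfsgLib.Char.card_centralizer_eq_of_isConj h).symm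

theorem card_cent_z : Nat.card (Subgroup.centralizer ({zM} : Set C576)) = 576 := by
  rw [show Subgroup.centralizer ({zM} : Set C576) = ⊤ from
      eq_top_iff.2 fun x _ => Subgroup.mem_centralizer_singleton_iff.2 (zM_central x).eq, Subgroup.card_top,
    card_eq]

/-- The involutions, with the order of their centralisers. -/
theorem class_of_card {x : C576} (hx : orderOf x = 2) :
    (x = zM ∧ Nat.card (Subgroup.centralizer ({x} : Set C576)) = 576) ∨
    ((IsConj aM x ∨ IsConj bM x) ∧ Nat.card (Subgroup.centralizer ({x} : Set C576)) = 48) ∨
    (IsConj eM x ∧ Nat.card (Subgroup.centralizer ({x} : Set C576)) = 32) := by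
  rcases sq_cases (by rw [← pow_two, ← hx, pow_orderOf_eq_one]) with rfl | rfl | h | h | h
  · simp at hx
  · exact Or.inl ⟨rfl, card_cent_z⟩
  · exact Or.inr (Or.inl ⟨Or.inl h, (card_cent_conj h).trans card_cent_a⟩)
  · exact Or.inr (Or.inl ⟨Or.inr h, (card_cent_conj h).trans card_cent_b⟩)
  · exact Or.inr (Or.inr ⟨h, (card_cent_conj h).trans card_cent_e⟩)

theorem eq_zM_of_central {x : C576} (hx : orderOf x = 2) (hc : ∀ y, Commute y x) : x = zM := by
  have h : Nat.card (Subgroup.centralizer ({x} : Set C576)) = 576 := by
    rw [show Subgroup.centralizer ({x} : Set C576) = ⊤ from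
      eq_top_iff.2 fun y _ => Subgroup.mem_centralizer_singleton_iff.2 (hc y).eq, Subgroup.card_top, card_eq]
  rcases class_of_card hx with h' | h' | h'
  · exact h'.1
  all_goals (rw [h] at h'; omega)

theorem not_a_and_b {x : C576} (ha : IsConj aM x) (hb : IsConj bM x) : False := by
  have h := test disjoint_check x
  rw [isConj_a.1 ha, isConj_b.1 hb] at h
  simp at h

theorem not_b_and_e {x : C576} (hb : IsConj bM x) (he : IsConj eM x) : False := by
  have h := test disjoint_check x
  rw [isConj_b.1 hb, isConj_e.1 he] at h
  simp at h

theorem not_a_and_e {x : C576} (ha : IsConj aM x) (he : IsConj eM x) : False := by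
  have h := test disjoint_check x
  rw [isConj_a.1 ha, isConj_e.1 he] at h
  simp at h

theorem z_mul_a {x : C576} (h : IsConj aM x) : IsConj bM (zM * x) := by
  have h' := test times_z x
  simp only [Bool.and_eq_true, isConj_a.1 h, Bool.not_true, Bool.false_or] at h'
  exact isConj_b.2 (by rw [code_mul, code_zM]; exact h'.1.1)

theorem z_mul_b {x : C576} (h : IsConj bM x) : IsConj aM (zM * x) := by
  have h' := test times_z x
  simp only [Bool.and_eq_true, isConj_b.1 h, Bool.not_true, Bool.false_or] at h'
  exact isConj_a.2 (by rw [code_mul, code_zM]; exact h'.1.2)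

/-- The subgroup given by a mask closed under multiplication and inversion. -/
def maskSub (m : ℕ) (h1 : inMask m 0 = true)
    (h : All576 fun x => !inMask m x ||
      (inMask m (invN x) && (List.range 576).all fun y => !inMask m y || inMask m (mulN x y))) :
    Subgroup C576 where
  carrier := {x | inMask m x.code.val = true}
  one_mem' := h1
  mul_mem' := fun {x y} hx hy => by
    have e := test h x
    simp only [Set.mem_setOf_eq] at hx hy
    rw [hx] at e
    simp only [Bool.not_true, Bool.false_or, Bool.and_eq_true] at e
    have e' := test_range e.2 y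
    rw [hy] at e'
    simp only [Bool.not_true, Bool.false_or] at e'
    show inMask m (x * y).code.val = true
    rw [code_mul]
    exact e'
  inv_mem' := fun {x} hx => by
    have e := test h x
    simp only [Set.mem_setOf_eq] at hx
    rw [hx] at e
    simp only [Bool.not_true, Bool.false_or, Bool.and_eq_true] at e
    exact e.1

theorem card_maskSub (m : ℕ) (h1 : inMask m 0 = true)
    (h : All576 fun x => !inMask m x ||
      (inMask m (invN x) && (List.range 576).all fun y => !inMask m y || inMask m (mulN x y))) :
    Nat.card (maskSub m h1 h) = ((List.range 576).filter fun x => inMask m x).length :=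
  card_filter_code fun x => inMask m x

/-- A Sylow subgroup. -/
def sylS : Subgroup C576 := maskSub maskS (by decide +kernel) sylow_closed

/-- Its subgroup of order 32 without conjugates of `aM` or `bM`. -/
def subQ : Subgroup C576 := maskSub maskQ (by decide +kernel) q_closed

theorem mem_sylS {x : C576} : x ∈ sylS ↔ inMask maskS x.code.val = true := Iff.rfl
theorem mem_subQ {x : C576} : x ∈ subQ ↔ inMask maskQ x.code.val = true := Iff.rfl

theorem card_sylS : Nat.card sylS = 64 := (card_maskSub _ _ _).trans sylow_count.1
theorem card_subQ : Nat.card subQ = 32 := (card_maskSub _ _ _).trans sylow_count.2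

theorem subQ_facts {x : C576} (hx : x ∈ subQ) : x ∈ sylS ∧ ¬ IsConj aM x ∧ ¬ IsConj bM x := by
  have h := test q_check x
  rw [mem_subQ.1 hx] at h
  simp only [Bool.not_true, Bool.false_or, Bool.and_eq_true, Bool.not_eq_true'] at h
  exact ⟨mem_sylS.2 h.1.1, fun hc => by rw [isConj_a.1 hc] at h; simp at h,
    fun hc => by rw [isConj_b.1 hc] at h; simp at h⟩

theorem sylS_centre {x : C576} (hx : x ∈ sylS) (hc : ∀ y ∈ sylS, Commute x y) (h2 : x * x = 1) :
    x = 1 ∨ x = zM := by
  have h := test sylow_centre x
  rw [mem_sylS.1 hx, ← code_mul, h2] at h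
  simp only [Bool.not_true, Bool.false_or, Bool.or_eq_true, Bool.not_eq_true', Nat.beq_eq] at h
  rcases h with ((h | h) | h) | h
  · exact Or.inl (eq_iff.2 h)
  · exact Or.inr (eq_iff.2 h)
  · exact absurd h (by rw [code_one]; decide)
  · obtain ⟨y, hy⟩ := exists_of_any h
    simp only [Bool.and_eq_true, Bool.not_eq_true'] at hy
    rw [commute_iff.1 (hc y hy.1)] at hy
    simp at hy

theorem reps_mem_sylS : zM ∈ sylS ∧ aM ∈ sylS ∧ bM ∈ sylS ∧ eM ∈ sylS :=
  ⟨mem_sylS.2 (by decide +kernel), mem_sylS.2 (by decide +kernel), mem_sylS.2 (by decide +kernel),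
    mem_sylS.2 (by decide +kernel)⟩

/-- The generators. -/
def genM (s : Fin 2) : C576 := ⟨genK s⟩

theorem closure_genM : Subgroup.closure (Set.range genM) = ⊤ := by
  refine Subgroup.map_injective (f := toPerm) perm_injective ?_
  rw [MonoidHom.map_closure, ← MonoidHom.range_eq_map, range_toPerm, ← Set.range_comp]
  rfl

/-- Membership in the subgroup of index two. -/
def par (x : C576) : Bool := inMask maskM x.code.val

theorem par_mul (x y : C576) : par (x * y) = (par x == par y) := by
  have key : ∀ (s : Fin 2) (y : C576), par (genM s * y) = (par (genM s) == par y) := by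
    intro s y
    have h := test half_gen y
    simp only [Bool.and_eq_true, beq_iff_eq] at h
    fin_cases s
    · exact h.1
    · exact h.2
  have hx : x ∈ Subgroup.closure (Set.range genM) := closure_genM ▸ Subgroup.mem_top x
  induction hx using Subgroup.closure_induction_left generalizing y with
  | one =>
    rw [one_mul, show par 1 = true by decide +kernel]
    cases par y <;> rfl
  | mul_left g hg x hx ih =>
    obtain ⟨s, rfl⟩ := hg
    rw [mul_assoc, key, key, ih]
    cases par (genM s) <;> cases par x <;> cases par y <;> rfl
  | inv_mul_cancel g hg x hx ih =>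
    obtain ⟨s, rfl⟩ := hg
    have h1 := key s ((genM s)⁻¹ * x * y)
    have h2 := key s ((genM s)⁻¹ * x)
    rw [← mul_assoc, ← mul_assoc, mul_inv_cancel, one_mul, ih] at h1
    rw [← mul_assoc, mul_inv_cancel, one_mul] at h2
    revert h1 h2
    cases par (genM s) <;> cases par x <;> cases par y <;> cases par ((genM s)⁻¹ * x) <;>
      cases par ((genM s)⁻¹ * x * y) <;> simp

/-- The subgroup of index two. -/
def half : Subgroup C576 where
  carrier := {x | par x = true}
  one_mem' := show par 1 = true by decide +kernel
  mul_mem' := fun {x y} hx hy => by simp only [Set.mem_setOf_eq] at *; rw [par_mul, hx, hy]; rfl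
  inv_mem' := fun {x} hx => by
    have h := par_mul x x⁻¹
    simp only [Set.mem_setOf_eq] at *
    rw [mul_inv_cancel, hx, show par 1 = true by decide +kernel] at h
    simpa using h.symm

theorem mem_half {x : C576} : x ∈ half ↔ par x = true := Iff.rfl

theorem mul_mem_half (x y : C576) : x * y ∈ half ↔ (x ∈ half ↔ y ∈ half) := by
  rw [mem_half, mem_half, mem_half, par_mul]
  cases par x <;> cases par y <;> simp

theorem zM_mem_half : zM ∈ half := mem_half.2 (by decide +kernel)
theorem aM_not_mem_half : aM ∉ half := fun h => absurd (mem_half.1 h) (by decide +kernel)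

/-- The automorphism multiplying the elements outside the half by the central involution. -/
def twist : C576 ≃* C576 where
  toFun x := if par x then x else zM * x
  invFun x := if par x then x else zM * x
  left_inv x := twist_twist x
  right_inv x := twist_twist x
  map_mul' x y := by
    have hz : zM * zM = 1 := eq_iff.2 (by decide +kernel)
    cases hx : par x <;> cases hy : par y <;> simp [par_mul, hx, hy]
    · calc x * y = zM * zM * (x * y) := by rw [hz, one_mul]
        _ = zM * (zM * x) * y := by group
        _ = zM * (x * zM) * y := by rw [(zM_central x).eq]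
        _ = zM * x * (zM * y) := by group
    · rw [mul_assoc]
    · calc zM * (x * y) = zM * x * y := (mul_assoc _ _ _).symm
        _ = x * zM * y := by rw [(zM_central x).eq]
        _ = x * (zM * y) := mul_assoc _ _ _
where
  twist_twist (x : C576) :
      (if par (if par x then x else zM * x) then (if par x then x else zM * x)
        else zM * (if par x then x else zM * x)) = x := by
    have hz : zM * zM = 1 := eq_iff.2 (by decide +kernel)
    cases hx : par x
    · simp only [Bool.false_eq_true, if_false, par_mul, hx, show par zM = true by decide +kernel]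
      rw [if_neg (by simp), ← mul_assoc, hz, one_mul]
    · simp only [if_true, hx]

theorem twist_zM : twist zM = zM := by decide +kernel
theorem twist_aM : twist aM = bM := by decide +kernel

theorem twist_eM : twist eM = eM := by decide +kernel

theorem mem_subQ_of_e {x : C576} (h : IsConj eM x) : x ∈ subQ := by
  have h' := test e_in_q x
  rw [isConj_e.1 h] at h'
  exact mem_subQ.2 (by simpa using h')

theorem sq_mem_half (x : C576) : x * x ∈ half := (mul_mem_half x x).2 Iff.rfl

end CfsgLib.KGroups.PSpFourThree.C576
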