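import Cfsg.Agent.Lib.KGroups.PSpFourThree.Model

/-!
# Computations in the group of order 576
-/

set_option autoImplicit false
set_option maxRecDepth 40000

namespace CfsgLib.KGroups.PSpFourThree

/-- The class of `a`. -/
def maskA : ℕ := 0x8000020000200000000800200000100000002000010000080000000000000000000000000000000000000000000000000000000000000000000000000000a1000000000000000000

/-- The class of the product of `a` with the central involution. -/
def maskB : ℕ := 0x4000010000100000000400100000080000001000008000040000000000000000000000000000000000000000000000000000000000000000000000014200000000000000000000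

/-- The class of `e`. -/
def maskE : ℕ := 0x804020100201000000804020100201000000020100804008040000000000000000000000000000000000000000

/-- A Sylow subgroup. -/
def maskS : ℕ := 0x804020100201008040804020100201008040020100804008040201804020100201008040804020100201008040020100804008040201020100804008040201020100804008040201

/-- The normal subgroup of order 32 in the Sylow subgroup with the involutions `z`, `e`. -/
def maskQ : ℕ := 0x804020100201008040804020100201008040020100804008040201000000000000000000020100804008040201

/-- The subgroup of index two. -/
def maskM : ℕ := 0xffffffffffffffffffffffffffffffffffffffffffffffffffffff000000000000000000ffffffffffffffffff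

/-- Membership in a mask. -/
def inMask (m k : ℕ) : Bool := Nat.beq ((m >>> k) % 2) 1

/-- The code commutes. -/
def commC (k l : ℕ) : Bool := Nat.beq (mulN k l) (mulN l k)

/-- The conjugate. -/
def conjC (h k : ℕ) : ℕ := mulN (mulN h k) (invN h)

/-- The commutator. -/
def commutC (p q : ℕ) : ℕ := mulN (mulN (invN p) (invN q)) (mulN p q)

/-- A Boolean test over all codes. -/
abbrev All576 (f : ℕ → Bool) : Prop := (List.range 576).all f = true

theorem class_closed : All576 fun h =>
    inMask maskA (conjC h 72) && inMask maskB (conjC h 81) && inMask maskE (conjC h 162) := by decide +kernel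

theorem class_witness : All576 fun x =>
    (!inMask maskA x || (List.range 576).any fun h => Nat.beq (conjC h 72) x) &&
      (!inMask maskB x || (List.range 576).any fun h => Nat.beq (conjC h 81) x) &&
      (!inMask maskE x || (List.range 576).any fun h => Nat.beq (conjC h 162) x) := by decide +kernel

theorem invol_check : All576 fun x => !Nat.beq (mulN x x) 0 || Nat.beq x 0 || Nat.beq x 9 ||
    inMask maskA x || inMask maskB x || inMask maskE x := by decide +kernel

theorem invol_mask : All576 fun x => !(inMask maskA x || inMask maskB x || inMask maskE x) ||
    (Nat.beq (mulN x x) 0 && !Nat.beq x 0 && !Nat.beq x 9) := by decide +kernel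

theorem central_check : All576 fun x => commC x 9 := by decide +kernel

theorem disjoint_check : All576 fun x => !(inMask maskA x && inMask maskB x) &&
    !(inMask maskA x && inMask maskE x) && !(inMask maskB x && inMask maskE x) := by decide +kernel

theorem cent_counts : ((List.range 576).filter fun h => commC h 72).length = 48 ∧
    ((List.range 576).filter fun h => commC h 81).length = 48 ∧
    ((List.range 576).filter fun h => commC h 162).length = 32 := by decide +kernel

theorem times_z : All576 fun x => (!inMask maskA x || inMask maskB (mulN 9 x)) &&
    (!inMask maskB x || inMask maskA (mulN 9 x)) && (!inMask maskE x || inMask maskE (mulN 9 x)) := by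
  decide +kernel

theorem sylow_closed : All576 fun x => !inMask maskS x ||
    (inMask maskS (invN x) && (List.range 576).all fun y => !inMask maskS y || inMask maskS (mulN x y)) := by
  decide +kernel

theorem q_closed : All576 fun x => !inMask maskQ x ||
    (inMask maskQ (invN x) && (List.range 576).all fun y => !inMask maskQ y || inMask maskQ (mulN x y)) := by
  decide +kernel

theorem q_check : All576 fun x => !inMask maskQ x ||
    (inMask maskS x && !inMask maskA x && !inMask maskB x) := by decide +kernel

theorem e_in_q : All576 fun x => !inMask maskE x || inMask maskQ x := by decide +kernel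

theorem sylow_count : ((List.range 576).filter fun h => inMask maskS h).length = 64 ∧
    ((List.range 576).filter fun h => inMask maskQ h).length = 32 := by decide +kernel

theorem sylow_centre : All576 fun x => !inMask maskS x || Nat.beq x 0 || Nat.beq x 9 || !Nat.beq (mulN x x) 0 ||
    (List.range 576).any fun y => inMask maskS y && !commC x y := by decide +kernel

/-- Membership in the subgroup of index two is a character. -/
theorem half_gen : All576 fun x => (inMask maskM (mulN 137 x) == (inMask maskM 137 == inMask maskM x)) &&
    (inMask maskM (mulN 64 x) == (inMask maskM 64 == inMask maskM x)) := by decide +kernel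

theorem comm_check : All576 fun p => !commC p 72 || (List.range 576).all fun q => !commC q 72 ||
    Nat.beq (mulN 72 (commutC p q)) 72 || inMask maskB (mulN 72 (commutC p q)) := by decide +kernel

theorem comm_check_b : All576 fun p => !commC p 81 || (List.range 576).all fun q => !commC q 81 ||
    Nat.beq (mulN 81 (commutC p q)) 81 || inMask maskA (mulN 81 (commutC p q)) := by decide +kernel

theorem special_codes : commC 4 72 = true ∧ commC 162 72 = true ∧ commC 4 81 = true ∧ commC 162 81 = true ∧
    inMask maskE (mulN 9 (commutC 4 162)) = true ∧ mulN (mulN 72 387) (mulN 485 575) = 9 ∧
    conjC 18 72 = 387 ∧ conjC 18 387 = 72 ∧ conjC 38 72 = 485 ∧ conjC 38 485 = 72 ∧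
    conjC 56 72 = 575 ∧ conjC 56 575 = 72 ∧ commC 387 72 = true ∧ commC 485 72 = true ∧ commC 575 72 = true ∧
    mulN 9 72 = 81 ∧ inMask maskA 387 = true ∧ inMask maskA 485 = true ∧ inMask maskA 575 = true ∧
    mulN 9 9 = 0 ∧ inMask maskS 9 = true ∧ inMask maskS 72 = true ∧ inMask maskS 81 = true ∧
    inMask maskS 162 = true ∧ inMask maskM 9 = true ∧ inMask maskM 72 = false := by decide +kernel

end CfsgLib.KGroups.PSpFourThree
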