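import Cfsg.Agent.Lib.KGroups.PSpFourThree.PointData
import Cfsg.Agent.Lib.KGroups.PSpFourThree.Dict

/-!
# Computations with the forty-five points
-/

set_option autoImplicit false
set_option maxRecDepth 40000

namespace CfsgLib.KGroups.PSpFourThree

/-- The far point of a code. -/
def cosN (k : ℕ) : ℕ := (cosTab >>> (6 * k)) % 64

/-- The position of a near point. -/
def nearIdx (x : ℕ) : ℕ := nearL.findIdx (Nat.beq x)

/-- The action of a code on the points. -/
def actP (c i : ℕ) : ℕ :=
  if i = 0 then 0
  else if i ≤ 12 then 1 + nearIdx (conjC c (nearL.getD (i - 1) 0))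
  else 13 + cosN (mulN c (repL.getD (i - 13) 0))

/-- The further involution on the points. -/
def sigP (i : ℕ) : ℕ := sigL.getD i 0

/-- Membership in a list. -/
def inList (i : ℕ) (l : List ℕ) : Bool := l.any (Nat.beq i)

/-- Checks a derivation of the action. -/
def chain : List (ℕ × ℕ) → List ℕ → Bool
  | [], known => (List.range 45).all fun i => inList i known
  | (k, h) :: rest, known =>
    inList k nearL && inList h known &&
      (if inMask maskM0 k then Nat.beq (sigP (actP k h)) (actP k (sigP h))
        else inList (actP k (sigP h)) known && Nat.beq (sigP (actP k h)) (actP k (sigP (actP k (sigP h))))) &&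
      chain rest (actP k h :: known)

/-- The points whose images follow at once. -/
def baseL : List ℕ :=
  [0, 13, 13 + cosN 9] ++ (List.range 12).map (fun n => 1 + n) ++
    (nearL.filter fun x => !inMask maskM0 x).flatMap fun x => [13 + cosN x, actP x (13 + cosN 9)]

theorem base_check : Nat.beq (sigP 0) (13 + cosN 9) && Nat.beq (sigP (13 + cosN 9)) 0 && Nat.beq (sigP 13) 13 &&
    ((List.range 12).all fun n =>
      if inMask maskM0 (nearL.getD n 0) then Nat.beq (sigP (1 + n)) (1 + n)
      else Nat.beq (sigP (1 + n)) (13 + cosN (nearL.getD n 0)) &&
        Nat.beq (sigP (13 + cosN (nearL.getD n 0))) (1 + n) &&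
        Nat.beq (sigP (actP (nearL.getD n 0) (13 + cosN 9))) (actP (nearL.getD n 0) (13 + cosN 9))) = true := by
  decide +kernel

theorem chain_check : chain stepL baseL = true := by decide +kernel

theorem sig_check : ((List.range 45).all fun i => Nat.blt (sigP i) 45 && Nat.beq (sigP (sigP i)) i) = true := by
  decide +kernel

theorem near_check : All576 fun x => !inMask maskA x ||
    (Nat.blt (nearIdx x) 12 && Nat.beq (nearL.getD (nearIdx x) 0) x) := by decide +kernel

theorem nearL_check : ((List.range 12).all fun n => inMask maskA (nearL.getD n 0) &&
    Nat.blt (nearL.getD n 0) 576 && Nat.beq (nearIdx (nearL.getD n 0)) n) = true := by decide +kernel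

theorem repL_check : ((List.range 32).all fun j => Nat.blt (repL.getD j 0) 576 &&
    (List.range 32).all fun i => !inMask maskM0 (mulN (invN (repL.getD i 0)) (repL.getD j 0)) || Nat.beq i j) = true ∧
    repL.getD 0 0 = 0 := by decide +kernel

theorem cos_check : All576 fun k => Nat.blt (cosN k) 32 &&
    inMask maskM0 (mulN (invN (repL.getD (cosN k) 0)) k) := by decide +kernel

theorem act_check : All576 fun c => (List.range 45).all fun i => Nat.blt (actP c i) 45 := by decide +kernel

theorem m0_closed : All576 fun x => !inMask maskM0 x ||
    (inMask maskM0 (invN x) && (List.range 576).all fun y => !inMask maskM0 y || inMask maskM0 (mulN x y)) := by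
  decide +kernel

theorem p9_closed : All576 fun x => !inMask maskP9 x ||
    (inMask maskP9 (invN x) && (List.range 576).all fun y => !inMask maskP9 y || inMask maskP9 (mulN x y)) := by
  decide +kernel

theorem m0_counts : ((List.range 576).filter fun x => inMask maskM0 x).length = 18 ∧
    ((List.range 576).filter fun x => inMask maskP9 x).length = 9 := by decide +kernel

theorem m0_split : All576 fun x => !inMask maskM0 x || inMask maskP9 x || inMask maskP9 (mulN x 72) := by
  decide +kernel

theorem norm_check : All576 fun x => !inMask maskA x ||
    ((List.range 576).any fun p => inMask maskP9 p && !inMask maskP9 (conjC x p)) ||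
    (List.range 576).any fun k => Nat.beq (conjC k x) 72 &&
      (List.range 576).all fun p => !inMask maskP9 p || inMask maskP9 (conjC k p) := by decide +kernel

theorem three_check : All576 fun x => !inMask maskA x || (List.range 576).all fun y =>
    !inMask maskA y || commC x y || Nat.beq (mulN (mulN (mulN x y) (mulN x y)) (mulN x y)) 0 := by decide +kernel

theorem ker_check : All576 fun c => Nat.beq c 0 || Nat.beq c 9 ||
    (List.range 576).any fun x => inMask maskA x && !commC c x := by decide +kernel

end CfsgLib.KGroups.PSpFourThree
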