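import Cfsg.Agent.Lib.KGroups.PSpFourThree.Count
import Cfsg.Agent.Lib.KGroups.PSpFourThree.PointFacts
import Cfsg.Agent.Lib.Involution.Count

/-!
# The conjugates of `t` that do not commute with it
-/

set_option autoImplicit false
set_option maxRecDepth 40000
set_option linter.unusedSectionVars false
set_option linter.style.haveILetI false

namespace CfsgLib.KGroups.PSpFourThree

open C576 Subgroup CfsgLib.Involution.Dihedral

attribute [local irreducible] mulN invN commC inMask conjC commutC pow16 isFive hitsC powC isT isB isOuter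

namespace C576

/-- The stabiliser of the base far point. -/
def subM0 : Subgroup C576 := maskSub maskM0 (by decide +kernel) m0_closed

/-- A Sylow 3-subgroup. -/
def subP9 : Subgroup C576 := maskSub maskP9 (by decide +kernel) p9_closed

theorem mem_subM0 {x : C576} : x ∈ subM0 ↔ inMask maskM0 x.code.val = true := Iff.rfl
theorem mem_subP9 {x : C576} : x ∈ subP9 ↔ inMask maskP9 x.code.val = true := Iff.rfl

theorem card_subM0 : Nat.card subM0 = 18 := (card_maskSub _ _ _).trans m0_counts.1
theorem card_subP9 : Nat.card subP9 = 9 := (card_maskSub _ _ _).trans m0_counts.2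

theorem three_of_noncomm {x y : C576} (hx : IsConj aM x) (hy : IsConj aM y) (h : ¬ Commute x y) :
    (x * y) * (x * y) * (x * y) = 1 := by
  have h1 := test three_check x
  rw [isConj_a.1 hx] at h1
  simp only [Bool.not_true, Bool.false_or] at h1
  have h2 := test_range h1 y
  rw [isConj_a.1 hy, Bool.eq_false_iff.2 (fun e => h (commute_iff.2 e))] at h2
  simp only [Bool.not_true, Bool.false_or, Nat.beq_eq] at h2
  exact eq_iff.2 (by rw [code_mul, code_mul (x * y), code_mul x y, h2, code_one])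

theorem eq_one_or_z_of_comm {c : C576} (h : ∀ x, IsConj aM x → Commute c x) : c = 1 ∨ c = zM := by
  have h1 := test ker_check c
  simp only [Bool.or_eq_true, Nat.beq_eq] at h1
  rcases h1 with (h1 | h1) | h1
  · exact Or.inl (eq_iff.2 h1)
  · exact Or.inr (eq_iff.2 h1)
  · obtain ⟨x, hx⟩ := exists_of_any h1
    simp only [Bool.and_eq_true, Bool.not_eq_true'] at hx
    have := commute_iff.1 (h x (isConj_a.2 hx.1))
    rw [hx.2] at this
    simp at this

end C576

namespace Emb

variable {G : Type*} [Group G] [Finite G] (S : Emb G) (hF : Fused S)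
include hF

theorem card_class : Nat.card {g : G // IsConj S.t g} = 45 := by
  classical
  haveI := Fintype.ofFinite G
  have h := CfsgLib.Involution.Count.card_eq_class_mul S.t
  rw [S.card_cent_t, S.card_eq hF, ← Fintype.card_subtype, ← Nat.card_eq_fintype_card] at h
  omega

/-- Two non-commuting conjugates of `t` in the centraliser of a third have a product of order three. -/
theorem pow_three_of_cent {w u v : G} (hw : IsConj S.t w) (hu : IsConj S.t u) (hv : IsConj S.t v)
    (huw : Commute u w) (hvw : Commute v w) (hne : ¬ Commute u v) : (u * v) * (u * v) * (u * v) = 1 := by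
  obtain ⟨g, hg⟩ := isConj_iff.1 hw
  have key : ∀ u, IsConj S.t u → Commute u w → ∃ x, (x = zM ∨ IsConj aM x) ∧ g * S.hom x * g⁻¹ = u := by
    intro u hu huw
    have e : g * (g⁻¹ * u * g) * g⁻¹ = u := by group
    obtain ⟨x, hx⟩ := S.exists_pre (show Commute (g⁻¹ * u * g) S.t by
      rw [← commute_conj_iff g, e, hg]; exact huw)
    refine ⟨x, (S.conj_t_iff hF).1 (hu.trans (isConj_iff.2 ⟨g⁻¹, ?_⟩)), by rw [hx, e]⟩
    rw [hx, inv_inv]
  obtain ⟨x, hx, rfl⟩ := key u hu huw
  obtain ⟨y, hy, rfl⟩ := key v hv hvw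
  have hxy : ¬ Commute x y := fun h => hne ((commute_conj_iff g).2 (h.map S.hom))
  have hx' : IsConj aM x := hx.resolve_left fun e => hxy (e ▸ (zM_central y).symm)
  have hy' : IsConj aM y := hy.resolve_left fun e => hxy (e ▸ zM_central x)
  rw [show g * S.hom x * g⁻¹ * (g * S.hom y * g⁻¹) = g * S.hom (x * y) * g⁻¹ by rw [map_mul]; group,
    show g * S.hom (x * y) * g⁻¹ * (g * S.hom (x * y) * g⁻¹) * (g * S.hom (x * y) * g⁻¹) =
      g * S.hom ((x * y) * (x * y) * (x * y)) * g⁻¹ by simp only [map_mul]; group,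
    three_of_noncomm hx' hy' hxy, map_one, mul_one, mul_inv_cancel]

/-- An element of the centraliser of two non-commuting conjugates of `t` in the second class does not exist. -/
theorem no_b_cent {w u v : G} (hw : IsConj S.B w) (hu : IsConj S.t u) (hv : IsConj S.t v)
    (huw : Commute u w) (hvw : Commute v w) : Commute u v := by
  obtain ⟨g, hg⟩ := isConj_iff.1 hw
  have key : ∀ u, IsConj S.t u → Commute u w → IsConj S.t (g⁻¹ * u * g) ∧ g⁻¹ * u * g ∈ S.cW := fun u hu huw =>
    ⟨hu.trans (isConj_iff.2 ⟨g⁻¹, by rw [inv_inv]⟩), S.mem_cW.2 (by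
      rw [← commute_conj_iff g, show g * (g⁻¹ * u * g) * g⁻¹ = u by group, hg]; exact huw)⟩
  have h := S.commute_of_mem hF (key u hu huw).1 (key u hu huw).2 (key v hv hvw).1 (key v hv hvw).2
  rwa [← commute_conj_iff g, show g * (g⁻¹ * u * g) * g⁻¹ = u by group,
    show g * (g⁻¹ * v * g) * g⁻¹ = v by group] at h

omit hF in
/-- The elements of the model centralising `d`. -/
def stabOf (d : G) : Subgroup C576 := (centralizer ({d} : Set G)).comap S.hom

omit hF in
theorem mem_stabOf {d : G} {c : C576} : c ∈ S.stabOf d ↔ Commute (S.hom c) d := by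
  rw [stabOf, Subgroup.mem_comap, mem_centralizer_singleton_iff]; rfl

/-- The involutions of the stabiliser of a far point are conjugate to `aM`. -/
theorem invol_stab {d : G} (hd : IsConj S.t d) (hdt : ¬ Commute d S.t) {c : C576} (hc : c ∈ S.stabOf d)
    (h2 : orderOf c = 2) : IsConj aM c := by
  rcases class_of_card h2 with ⟨rfl, -⟩ | ⟨h | h, -⟩ | ⟨h, -⟩
  · exact (hdt (S.map_z ▸ (S.mem_stabOf.1 hc).symm)).elim
  · exact h
  · exact (hdt (S.no_b_cent hF ((S.conj_B_iff hF).2 (Or.inl h)) hd (IsConj.refl _) (S.mem_stabOf.1 hc).symm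
      (S.commute_t c).symm)).elim
  · exact (hdt (S.no_b_cent hF ((S.conj_B_iff hF).2 (Or.inr h)) hd (IsConj.refl _) (S.mem_stabOf.1 hc).symm
      (S.commute_t c).symm)).elim

/-- The far conjugates of `t`. -/
abbrev FarPts : Type _ := {g : G // IsConj S.t g ∧ ¬ Commute g S.t}

theorem card_far : Nat.card S.FarPts = 32 := by
  classical
  have h13 : Nat.card {g : G // IsConj S.t g ∧ Commute g S.t} = 13 := by
    rw [show (13 : ℕ) = ((List.range 576).filter fun x => isT x).length by decide +kernel,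
      ← C576.card_filter_code]
    refine (Nat.card_congr (Equiv.ofBijective (fun x => (⟨S.hom x.1, (S.conj_t_iff hF).2 (isT_iff.1 x.2),
      S.commute_t x.1⟩ : {g : G // IsConj S.t g ∧ Commute g S.t})) ⟨?_, ?_⟩)).symm
    · exact fun a b e => Subtype.ext (S.inj (congrArg Subtype.val e))
    · rintro ⟨g, hg, hgt⟩
      obtain ⟨x, rfl⟩ := S.exists_pre hgt
      exact ⟨⟨x, isT_iff.2 ((S.conj_t_iff hF).1 hg)⟩, rfl⟩
  haveI := Fintype.ofFinite G
  simp only [Nat.card_eq_fintype_card, Fintype.card_subtype] at h13 ⊢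
  have h45 := S.card_class hF
  rw [Nat.card_eq_fintype_card, Fintype.card_subtype] at h45
  have hs := Finset.card_filter_add_card_filter_not (s := Finset.univ.filter fun g : G => IsConj S.t g)
    (fun g => Commute g S.t)
  rw [Finset.filter_filter, Finset.filter_filter] at hs
  omega

theorem far_nonempty : ∃ d, IsConj S.t d ∧ ¬ Commute d S.t := by
  have h := S.card_far hF
  obtain ⟨⟨d, hd⟩⟩ := (Nat.card_pos_iff.1 (show 0 < Nat.card S.FarPts by omega)).1
  exact ⟨d, hd⟩

/-- The orbit map of a far point. -/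
def orbMap {d : G} (hd : IsConj S.t d) (hdt : ¬ Commute d S.t) : C576 ⧸ S.stabOf d → S.FarPts :=
  Quotient.lift (fun c => ⟨S.hom c * d * (S.hom c)⁻¹, hd.trans (isConj_iff.2 ⟨S.hom c, rfl⟩), fun h => hdt (by
    rw [← commute_conj_iff (S.hom c), show S.hom c * S.t * (S.hom c)⁻¹ = S.t by
      rw [(S.commute_t c).eq, mul_inv_cancel_right]]
    exact h)⟩) fun a b hab => Subtype.ext (by
      have h := S.mem_stabOf.1 (QuotientGroup.leftRel_apply.1 hab)
      rw [map_mul, map_inv] at h
      show S.hom a * d * (S.hom a)⁻¹ = S.hom b * d * (S.hom b)⁻¹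
      calc _ = S.hom a * (d * ((S.hom a)⁻¹ * S.hom b)) * (S.hom b)⁻¹ := by group
        _ = S.hom a * ((S.hom a)⁻¹ * S.hom b * d) * (S.hom b)⁻¹ := by rw [h.eq]
        _ = _ := by group)

theorem orbMap_injective {d : G} (hd : IsConj S.t d) (hdt : ¬ Commute d S.t) :
    Function.Injective (S.orbMap hd hdt) := by
  intro a b
  refine Quotient.inductionOn₂ a b fun a b e => Quotient.sound (QuotientGroup.leftRel_apply.2 (S.mem_stabOf.2 ?_))
  have e' : S.hom a * d * (S.hom a)⁻¹ = S.hom b * d * (S.hom b)⁻¹ := congrArg Subtype.val e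
  rw [map_mul, map_inv]
  show (S.hom a)⁻¹ * S.hom b * d = d * ((S.hom a)⁻¹ * S.hom b)
  calc _ = (S.hom a)⁻¹ * (S.hom b * d * (S.hom b)⁻¹) * S.hom b := by group
    _ = (S.hom a)⁻¹ * (S.hom a * d * (S.hom a)⁻¹) * S.hom b := by rw [e']
    _ = _ := by group

theorem card_stab {d : G} (hd : IsConj S.t d) (hdt : ¬ Commute d S.t) :
    Nat.card (S.stabOf d) = 18 ∧ Function.Bijective (S.orbMap hd hdt) := by
  haveI : Fact (Nat.Prime 2) := ⟨Nat.prime_two⟩
  set L := S.stabOf d with hL
  have h4 : ¬ 4 ∣ Nat.card L := by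
    intro h
    obtain ⟨H, hH⟩ := Sylow.exists_subgroup_card_pow_prime (G := L) 2 (n := 2) h
    have ho : ∀ x : H, x ≠ 1 → ((x : L) : C576) ∉ half := by
      intro x hx hxh
      have h4 : orderOf x ∣ 2 ^ 2 := hH ▸ orderOf_dvd_natCard x
      obtain ⟨k, hk, hko⟩ := (Nat.dvd_prime_pow Nat.prime_two).1 h4
      have hco : ∀ y : H, orderOf ((y : L) : C576) = orderOf y := fun y => by
        rw [Subgroup.orderOf_coe, Subgroup.orderOf_coe]
      interval_cases k
      · exact hx (orderOf_eq_one_iff.1 hko)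
      · have ha := S.invol_stab hF hd hdt (x : L).2 ((hco x).trans hko)
        obtain ⟨g, hg⟩ := isConj_iff.1 ha
        rw [← hg, mul_mem_half, mul_mem_half, Subgroup.inv_mem_iff] at hxh
        exact aM_not_mem_half (by tauto)
      · have hx2 : orderOf (x * x) = 2 := by
          rw [← pow_two, orderOf_pow, hko]; rfl
        have ha := S.invol_stab hF hd hdt ((x * x : H) : L).2 ((hco (x * x)).trans hx2)
        obtain ⟨g, hg⟩ := isConj_iff.1 ha
        have h' : ((x : L) : C576) * ((x : L) : C576) ∈ half := sq_mem_half _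
        rw [show ((x : L) : C576) * ((x : L) : C576) = (((x * x : H) : L) : C576) from rfl, ← hg, mul_mem_half,
          mul_mem_half, Subgroup.inv_mem_iff] at h'
        exact aM_not_mem_half (by tauto)
    have h' : 3 ≤ Nat.card H := by rw [hH]; norm_num
    haveI := Fintype.ofFinite H
    obtain ⟨x, hx, y, hy, hxy⟩ : ∃ x : H, x ≠ 1 ∧ ∃ y : H, y ≠ 1 ∧ x * y ≠ 1 := by
      rw [Nat.card_eq_fintype_card] at h'
      obtain ⟨x, hx⟩ := Fintype.exists_ne_of_one_lt_card (by omega) (1 : H)
      by_contra hcon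
      push Not at hcon
      have hsub : (Finset.univ : Finset H) ⊆ {1, x⁻¹} := fun y _ => by
        by_cases hy : y = 1
        · simp [hy]
        · simp [eq_inv_of_mul_eq_one_right (hcon x hx y hy)]
      have := (Finset.card_le_card hsub).trans Finset.card_le_two
      rw [Finset.card_univ] at this
      omega
    refine ho _ hxy ?_
    show ((x : L) : C576) * ((y : L) : C576) ∈ half
    rw [mul_mem_half]
    exact iff_of_false (ho x hx) (ho y hy)
  have hle : Nat.card (C576 ⧸ L) ≤ 32 :=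
    (Nat.card_le_card_of_injective _ (S.orbMap_injective hF hd hdt)).trans_eq (S.card_far hF)
  have hmul := L.card_eq_card_quotient_mul_card_subgroup
  rw [C576.card_eq] at hmul
  have hdvd : Nat.card L ∈ Nat.divisors 576 :=
    Nat.mem_divisors.2 ⟨C576.card_eq ▸ L.card_subgroup_dvd_card, by norm_num⟩
  have hge : 18 ≤ Nat.card L := by nlinarith
  have hdiv : ∀ n ∈ Nat.divisors 576, 4 ∣ n ∨ n ≤ 18 := by decide +kernel
  have h18 : Nat.card L = 18 := le_antisymm ((hdiv _ hdvd).resolve_left h4) hge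
  refine ⟨h18, (Nat.bijective_iff_injective_and_card _).2 ⟨S.orbMap_injective hF hd hdt, ?_⟩⟩
  rw [h18] at hmul
  show Nat.card (C576 ⧸ L) = _
  rw [S.card_far hF]
  omega

/-- Products of two conjugates of `t` that do not commute have order three. -/
theorem pow_three {u v : G} (hu : IsConj S.t u) (hv : IsConj S.t v) (hne : ¬ Commute u v) :
    (u * v) * (u * v) * (u * v) = 1 := by
  obtain ⟨g, hg⟩ := isConj_iff.1 hu
  set d := g⁻¹ * v * g with hd'
  have hd : IsConj S.t d := hv.trans (isConj_iff.2 ⟨g⁻¹, by rw [hd', inv_inv]⟩)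
  have hdt : ¬ Commute d S.t := fun h => hne (by
    have := (commute_conj_iff g).2 h
    rw [hg, hd', show g * (g⁻¹ * v * g) * g⁻¹ = v by group] at this
    exact this.symm)
  haveI : Fact (Nat.Prime 2) := ⟨Nat.prime_two⟩
  obtain ⟨c, hc⟩ := exists_prime_orderOf_dvd_card' (G := S.stabOf d) 2
    ((S.card_stab hF hd hdt).1 ▸ by norm_num)
  have hca := S.invol_stab hF hd hdt c.2 (by rw [Subgroup.orderOf_coe, hc])
  have h := S.pow_three_of_cent hF ((S.conj_t_iff hF).2 (Or.inr hca)) (IsConj.refl _) hd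
    (S.commute_t c.1).symm (S.mem_stabOf.1 c.2).symm fun h => hdt h.symm
  have h' := congrArg (fun w => g * w * g⁻¹) h
  simp only [mul_one, mul_inv_cancel] at h'
  rw [← h', hd', ← hg]
  group

theorem braid {u v : G} (hu : IsConj S.t u) (hv : IsConj S.t v) (hne : ¬ Commute u v) : u * v * u = v * u * v := by
  have h := S.pow_three hF hu hv hne
  have hu2 : u⁻¹ = u := inv_eq ((orderOf_conj_eq hu).trans S.orderOf_t)
  have hv2 : v⁻¹ = v := inv_eq ((orderOf_conj_eq hv).trans S.orderOf_t)
  calc u * v * u = u * v * u * v * u * v * (v⁻¹ * u⁻¹ * v⁻¹) := by group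
    _ = v * u * v := by
      rw [show u * v * u * v * u * v = u * v * (u * v) * (u * v) by simp only [mul_assoc], h, one_mul, hu2, hv2]

/-- A far point with the prescribed stabiliser. -/
theorem exists_base : ∃ d, IsConj S.t d ∧ ¬ Commute d S.t ∧ S.stabOf d = subM0 := by
  haveI : Fact (Nat.Prime 3) := ⟨Nat.prime_three⟩
  obtain ⟨d0, hd0, hdt0⟩ := S.far_nonempty hF
  have h18 := (S.card_stab hF hd0 hdt0).1
  obtain ⟨H, hH⟩ := Sylow.exists_subgroup_card_pow_prime (G := S.stabOf d0) 3 (n := 2) (by rw [h18]; norm_num)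
  have hcardMap : Nat.card (H.map (S.stabOf d0).subtype) = 9 := by
    rw [Nat.card_congr (Subgroup.equivMapOfInjective H _ Subtype.val_injective).toEquiv.symm, hH]; norm_num
  have hfac : (3 : ℕ) ^ (Nat.card C576).factorization 3 = 9 := by
    rw [C576.card_eq, show (576 : ℕ) = 64 * 3 ^ 2 by norm_num, Nat.factorization_mul (by norm_num) (by norm_num),
      Finsupp.add_apply, Nat.factorization_eq_zero_of_not_dvd (by norm_num), Nat.prime_three.factorization_pow,
      Finsupp.single_eq_same]
    norm_num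
  let P : Sylow 3 C576 := Sylow.ofCard (H.map (S.stabOf d0).subtype) (by rw [hcardMap, hfac])
  let P0 : Sylow 3 C576 := Sylow.ofCard subP9 (by rw [card_subP9, hfac])
  obtain ⟨k, hk⟩ := MulAction.exists_smul_eq C576 P P0
  have hk' : ∀ p ∈ subP9, k⁻¹ * p * k ∈ S.stabOf d0 := fun p hp => by
    have hp' : p ∈ ((k • P : Sylow 3 C576) : Subgroup C576) := by rw [hk]; exact hp
    obtain ⟨q, hq, rfl⟩ := Subgroup.mem_smul_pointwise_iff_exists _ _ _ |>.1 hp'
    have hqd : q ∈ S.stabOf d0 := Subgroup.map_subtype_le H hq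
    simpa [MulAut.smul_def, mul_assoc] using hqd
  set d1 := S.hom k * d0 * (S.hom k)⁻¹
  have hd1 : IsConj S.t d1 := hd0.trans (isConj_iff.2 ⟨S.hom k, rfl⟩)
  have hdt1 : ¬ Commute d1 S.t := fun h => hdt0 (by
    rw [← commute_conj_iff (S.hom k), show S.hom k * S.t * (S.hom k)⁻¹ = S.t by
      rw [(S.commute_t k).eq, mul_inv_cancel_right]]
    exact h)
  have hP1 : subP9 ≤ S.stabOf d1 := fun p hp => S.mem_stabOf.2 (by
    rw [← commute_conj_iff (S.hom k)⁻¹]
    have := S.mem_stabOf.1 (hk' p hp)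
    rw [map_mul, map_mul, map_inv] at this
    simpa [d1, mul_assoc] using this)
  haveI : Fact (Nat.Prime 2) := ⟨Nat.prime_two⟩
  obtain ⟨⟨w, hw⟩, hwo⟩ := exists_prime_orderOf_dvd_card' (G := S.stabOf d1) 2
    ((S.card_stab hF hd1 hdt1).1 ▸ by norm_num)
  rw [← Subgroup.orderOf_coe] at hwo
  have hwa := S.invol_stab hF hd1 hdt1 hw hwo
  have hnorm : ∀ p ∈ subP9, w * p * w⁻¹ ∈ subP9 := by
    intro p hp
    set L := S.stabOf d1
    have hidx : (subP9.subgroupOf L).index = 2 := by
      have h := (subP9.subgroupOf L).card_mul_index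
      rw [Nat.card_congr (Subgroup.subgroupOfEquivOfLe hP1).toEquiv, card_subP9, (S.card_stab hF hd1 hdt1).1] at h
      omega
    haveI := Subgroup.normal_of_index_eq_two hidx
    exact Subgroup.mem_subgroupOf.1 (Subgroup.Normal.conj_mem inferInstance (⟨p, hP1 hp⟩ : L)
      (Subgroup.mem_subgroupOf.2 hp) ⟨w, hw⟩)
  obtain ⟨j, hj, hjP⟩ : ∃ j : C576, j * w * j⁻¹ = aM ∧ ∀ p ∈ subP9, j * p * j⁻¹ ∈ subP9 := by
    have h := test norm_check w
    rw [isConj_a.1 hwa] at h
    simp only [Bool.not_true, Bool.false_or, Bool.or_eq_true] at h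
    rcases h with h | h
    · obtain ⟨p, hp⟩ := exists_of_any h
      simp only [Bool.and_eq_true, Bool.not_eq_true'] at hp
      have := mem_subP9.1 (hnorm p (mem_subP9.2 hp.1))
      rw [code_conj, hp.2] at this
      simp at this
    · obtain ⟨j, hj⟩ := exists_of_any h
      simp only [Bool.and_eq_true, Nat.beq_eq] at hj
      refine ⟨j, C576.eq_iff.2 (by rw [code_conj, hj.1, code_aM]), fun p hp => mem_subP9.2 ?_⟩
      have h' := test_range hj.2 p
      rw [mem_subP9.1 hp] at h'
      rw [code_conj]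
      simpa using h'
  let cj : subP9 → subP9 := fun p => ⟨j * p.1 * j⁻¹, hjP p p.2⟩
  have hsurj : Function.Surjective cj := Finite.surjective_of_injective fun a b e =>
    Subtype.ext (mul_left_cancel (mul_right_cancel (congrArg Subtype.val e)))
  refine ⟨S.hom j * d1 * (S.hom j)⁻¹, hd1.trans (isConj_iff.2 ⟨S.hom j, rfl⟩), fun h => hdt1 (by
    rw [← commute_conj_iff (S.hom j), show S.hom j * S.t * (S.hom j)⁻¹ = S.t by
      rw [(S.commute_t j).eq, mul_inv_cancel_right]]
    exact h), ?_⟩
  have hmemj : ∀ c ∈ S.stabOf d1, j * c * j⁻¹ ∈ S.stabOf (S.hom j * d1 * (S.hom j)⁻¹) := fun c hc =>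
    S.mem_stabOf.2 (by rw [map_mul, map_mul, map_inv]; exact (commute_conj_iff _).2 (S.mem_stabOf.1 hc))
  have hle : subM0 ≤ S.stabOf (S.hom j * d1 * (S.hom j)⁻¹) := by
    intro x hx
    have hP2 : ∀ p ∈ subP9, p ∈ S.stabOf (S.hom j * d1 * (S.hom j)⁻¹) := fun p hp => by
      obtain ⟨q, hq⟩ := hsurj ⟨p, hp⟩
      have := hmemj q.1 (hP1 q.2)
      rwa [show j * q.1 * j⁻¹ = p from congrArg Subtype.val hq] at this
    have haj := hj ▸ hmemj w hw
    have h := test m0_split x
    rw [mem_subM0.1 hx] at h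
    simp only [Bool.not_true, Bool.false_or, Bool.or_eq_true] at h
    rcases h with h | h
    · exact hP2 x (mem_subP9.2 h)
    · have h' : x * aM ∈ subP9 := mem_subP9.2 (by rw [code_mul, code_aM]; exact h)
      have := (S.stabOf _).mul_mem (hP2 _ h') ((S.stabOf _).inv_mem haj)
      rwa [mul_inv_cancel_right] at this
  refine (Subgroup.eq_of_le_of_card_ge hle ?_).symm
  rw [card_subM0]
  exact le_of_eq (S.card_stab hF (hd1.trans (isConj_iff.2 ⟨S.hom j, rfl⟩)) fun h => hdt1 (by
    rw [← commute_conj_iff (S.hom j), show S.hom j * S.t * (S.hom j)⁻¹ = S.t by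
      rw [(S.commute_t j).eq, mul_inv_cancel_right]]
    exact h)).1

end Emb

end CfsgLib.KGroups.PSpFourThree
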