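import Cfsg.Agent.Lib.KGroups.PSpFourThree.Dict
import Cfsg.Agent.Lib.Fusion.ThompsonTransfer
import Cfsg.Agent.Lib.Involution.Dihedral
import Cfsg.Agent.Lib.Involution.Basic
import Cfsg.Agent.S0215

/-!
# Fusion of involutions when a centraliser is that of a 2-central involution of `PSp₄(3)`
-/

set_option autoImplicit false
set_option linter.unusedSectionVars false
set_option linter.style.haveILetI false

namespace CfsgLib.KGroups.PSpFourThree

open C576 Subgroup CfsgLib.Involution.Dihedral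

attribute [local irreducible] mulN invN commC inMask conjC commutC

/-- A group with an involution `t` whose centraliser is the image of `C576`. -/
structure Emb (G : Type*) [Group G] where
  /-- The involution. -/
  t : G
  /-- The embedding. -/
  hom : C576 →* G
  inj : Function.Injective hom
  range_eq : hom.range = Subgroup.centralizer ({t} : Set G)
  map_z : hom zM = t

theorem orders : orderOf zM = 2 ∧ orderOf aM = 2 ∧ orderOf bM = 2 ∧ orderOf eM = 2 := by
  refine ⟨?_, ?_, ?_, ?_⟩ <;>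
    exact orderOf_eq_two (C576.eq_iff.2 (by decide +kernel)) (by decide +kernel)

theorem commute_conj_iff {G : Type*} [Group G] (g : G) {a b : G} :
    Commute (g * a * g⁻¹) (g * b * g⁻¹) ↔ Commute a b :=
  ⟨fun h => by simpa [mul_assoc] using (h.map (MulAut.conj g⁻¹).toMonoidHom),
    fun h => h.map (MulAut.conj g).toMonoidHom⟩

namespace Emb

variable {G : Type*} [Group G] [Finite G] (S : Emb G)

theorem orderOf_hom (x : C576) : orderOf (S.hom x) = orderOf x := orderOf_injective S.hom S.inj x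

theorem orderOf_t : orderOf S.t = 2 := by rw [← S.map_z, S.orderOf_hom, orders.1]

theorem commute_t (x : C576) : Commute (S.hom x) S.t := by
  rw [← S.map_z]; exact (zM_central x).map S.hom

theorem exists_pre {g : G} (h : Commute g S.t) : ∃ x, S.hom x = g := by
  rw [← MonoidHom.mem_range, S.range_eq]
  exact mem_centralizer_singleton_iff.2 h.eq

theorem commute_hom_iff {x y : C576} : Commute (S.hom x) (S.hom y) ↔ Commute x y :=
  ⟨fun h => S.inj (by rw [map_mul, map_mul]; exact h.eq), fun h => h.map S.hom⟩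

theorem map_cent (x : C576) : (centralizer ({x} : Set C576)).map S.hom =
    centralizer ({S.t} : Set G) ⊓ centralizer ({S.hom x} : Set G) := by
  ext g
  rw [Subgroup.mem_map, Subgroup.mem_inf, mem_centralizer_singleton_iff, mem_centralizer_singleton_iff]
  constructor
  · rintro ⟨y, hy, rfl⟩
    exact ⟨(S.commute_t y).eq, (S.commute_hom_iff.2 (mem_centralizer_singleton_iff.1 hy)).eq⟩
  · rintro ⟨h1, h2⟩
    obtain ⟨y, rfl⟩ := S.exists_pre h1
    exact ⟨y, mem_centralizer_singleton_iff.2 (S.commute_hom_iff.1 h2).eq, rfl⟩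

theorem card_cent_inf (x : C576) :
    Nat.card ↥(centralizer ({S.t} : Set G) ⊓ centralizer ({S.hom x} : Set G)) =
      Nat.card (centralizer ({x} : Set C576)) := by
  rw [← S.map_cent, Nat.card_congr (Subgroup.equivMapOfInjective _ _ S.inj).toEquiv.symm]

theorem card_cent_t : Nat.card (centralizer ({S.t} : Set G)) = 576 := by
  rw [← S.range_eq, Nat.card_congr (MonoidHom.ofInjective S.inj).toEquiv.symm, C576.card_eq]

theorem card_inf_conj (g x y : G) :
    Nat.card ↥(centralizer ({g * x * g⁻¹} : Set G) ⊓ centralizer ({g * y * g⁻¹} : Set G)) =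
      Nat.card ↥(centralizer ({x} : Set G) ⊓ centralizer ({y} : Set G)) := by
  refine (Nat.card_congr (Equiv.subtypeEquiv (MulAut.conj g).toEquiv fun h => ?_)).symm
  simp only [Subgroup.mem_inf, mem_centralizer_singleton_iff, MulEquiv.toEquiv_eq_coe, EquivLike.coe_coe,
    MulAut.conj_apply]
  exact and_congr (commute_conj_iff g (a := h) (b := x)).symm (commute_conj_iff g (a := h) (b := y)).symm

/-- If `h` carries `t` to an involution `x` of the centraliser, the one carried to `t` has a centraliser of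
the same order there. -/
theorem pull {h : G} {x : C576} (hh : h * S.t * h⁻¹ = S.hom x) :
    ∃ p : C576, S.hom p = h⁻¹ * S.t * h ∧ orderOf p = 2 ∧
      Nat.card (centralizer ({p} : Set C576)) = Nat.card (centralizer ({x} : Set C576)) := by
  have e : h * (h⁻¹ * S.t * h) * h⁻¹ = S.t := by group
  have hc : Commute (h⁻¹ * S.t * h) S.t := by
    rw [← commute_conj_iff h, e, hh]
    exact (S.commute_t x).symm
  obtain ⟨p, hp⟩ := S.exists_pre hc
  refine ⟨p, hp, by rw [← S.orderOf_hom, hp, ← orderOf_conj h, e, S.orderOf_t], ?_⟩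
  rw [← S.card_cent_inf, ← S.card_cent_inf, hp, ← card_inf_conj h S.t, e, hh, inf_comm]

theorem pull_ab {h : G} {x : C576} (hx : IsConj aM x ∨ IsConj bM x) (hh : h * S.t * h⁻¹ = S.hom x) :
    ∃ p : C576, S.hom p = h⁻¹ * S.t * h ∧ (IsConj aM p ∨ IsConj bM p) := by
  obtain ⟨p, hp, hp2, hc⟩ := S.pull hh
  have h48 : Nat.card (centralizer ({x} : Set C576)) = 48 := by
    rcases hx with hx | hx
    exacts [(card_cent_conj hx).trans card_cent_a, (card_cent_conj hx).trans card_cent_b]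
  rw [h48] at hc
  rcases class_of_card hp2 with h' | h' | h' <;> first | exact ⟨p, hp, h'.1⟩ | (rw [hc] at h'; omega)

/-- A Sylow 2-subgroup of the group, inside the centraliser. -/
theorem exists_sylow : ∃ P : Sylow 2 G, (P : Subgroup G) = sylS.map S.hom := by
  haveI : Fact (Nat.Prime 2) := ⟨Nat.prime_two⟩
  set P0 := sylS.map S.hom with hP0
  have hcard : Nat.card P0 = 64 := by
    rw [hP0, Nat.card_congr (Subgroup.equivMapOfInjective _ _ S.inj).toEquiv.symm, card_sylS]
  obtain ⟨P, hP⟩ := (IsPGroup.of_card (p := 2) (n := 6) (by rw [hcard]; norm_num)).exists_le_sylow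
  refine ⟨P, ?_⟩
  by_contra hne
  haveI : Group.IsNilpotent (P : Subgroup G) := P.2.isNilpotent
  have hlt' : P0.subgroupOf P < ⊤ :=
    lt_top_iff_ne_top.2 fun e => hne (le_antisymm (Subgroup.subgroupOf_eq_top.1 e) hP)
  obtain ⟨n, hnN, hn⟩ := SetLike.exists_of_lt (Group.normalizerCondition_of_isNilpotent _ hlt')
  have hnorm : ∀ y ∈ P0, (n : G) * y * (n : G)⁻¹ ∈ P0 := fun y hy =>
    (Subgroup.mem_subgroupOf.1 ((Subgroup.mem_normalizer_iff.1 hnN ⟨y, hP hy⟩).1 (Subgroup.mem_subgroupOf.2 hy)) :)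
  obtain ⟨w, hw, hwe⟩ := Subgroup.mem_map.1 (hnorm S.t (S.map_z ▸ Subgroup.mem_map_of_mem _ reps_mem_sylS.1))
  have hw2 : w * w = 1 := mul_self (by rw [← S.orderOf_hom, hwe, orderOf_conj, S.orderOf_t])
  have hwc : ∀ y ∈ sylS, Commute w y := fun y hy => by
    rw [← S.commute_hom_iff, ← commute_conj_iff (n : G)⁻¹]
    have e1 : (n : G)⁻¹ * S.hom w * (n : G)⁻¹⁻¹ = S.t := by rw [hwe]; group
    rw [e1]
    have hmem : (n : G)⁻¹ * S.hom y * (n : G)⁻¹⁻¹ ∈ P0 := by
      have := (Subgroup.mem_normalizer_iff.1 ((Subgroup.normalizer _).inv_mem hnN)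
        ⟨S.hom y, hP (Subgroup.mem_map_of_mem S.hom hy)⟩).1
        (Subgroup.mem_subgroupOf.2 (Subgroup.mem_map_of_mem S.hom hy))
      exact Subgroup.mem_subgroupOf.1 this
    obtain ⟨y'', -, hy''⟩ := Subgroup.mem_map.1 hmem
    rw [← hy'']
    exact (S.commute_t y'').symm
  rcases sylS_centre hw hwc hw2 with rfl | rfl
  · rw [map_one] at hwe
    exact ne_one S.orderOf_t (conj_eq_one_iff.1 hwe.symm)
  · rw [S.map_z] at hwe
    have hnt : (n : G) ∈ centralizer ({S.t} : Set G) :=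
      mem_centralizer_singleton_iff.2 (mul_inv_eq_iff_eq_mul.1 hwe.symm)
    have hle : P0 ≤ (P : Subgroup G) ⊓ centralizer ({S.t} : Set G) := le_inf hP (by
      rintro _ ⟨y, -, rfl⟩
      exact mem_centralizer_singleton_iff.2 (S.commute_t y).eq)
    obtain ⟨k, hk⟩ := IsPGroup.iff_card.1 (P.2.to_le (inf_le_left :
      (P : Subgroup G) ⊓ centralizer ({S.t} : Set G) ≤ P))
    have hd : Nat.card ↥((P : Subgroup G) ⊓ centralizer ({S.t} : Set G)) ∣ 576 :=
      S.card_cent_t ▸ Subgroup.card_dvd_of_le inf_le_right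
    rw [hk] at hd
    have h6 : k ≤ 6 := by
      by_contra hk'
      exact absurd ((pow_dvd_pow 2 (show 7 ≤ k by omega)).trans hd) (by norm_num)
    have heq := Subgroup.eq_of_le_of_card_ge hle
      (by rw [hk, hcard]; exact Nat.pow_le_pow_right (by norm_num) h6)
    exact hn (Subgroup.mem_subgroupOf.2 (heq ▸ Subgroup.mem_inf.2 ⟨n.2, hnt⟩))

theorem four_classes {g : G} (hg : orderOf g = 2) :
    IsConj S.t g ∨ IsConj (S.hom aM) g ∨ IsConj (S.hom bM) g ∨ IsConj (S.hom eM) g := by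
  haveI : Fact (Nat.Prime 2) := ⟨Nat.prime_two⟩
  obtain ⟨P, hP⟩ := S.exists_sylow
  obtain ⟨k, hk⟩ := CfsgLib.Involution.Basic.exists_conj_mem P hg
  obtain ⟨y, -, hye⟩ := Subgroup.mem_map.1 (show k * g * k⁻¹ ∈ sylS.map S.hom from hP ▸ hk)
  have hy : orderOf y = 2 := by rw [← S.orderOf_hom, hye, orderOf_conj, hg]
  have hyg : IsConj (S.hom y) g := (isConj_iff.2 ⟨k, hye.symm⟩).symm
  rcases class_of_card hy with ⟨rfl, -⟩ | ⟨h | h, -⟩ | ⟨h, -⟩
  · exact Or.inl (S.map_z ▸ hyg)
  · exact Or.inr (Or.inl ((S.hom.map_isConj h).trans hyg))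
  · exact Or.inr (Or.inr (Or.inl ((S.hom.map_isConj h).trans hyg)))
  · exact Or.inr (Or.inr (Or.inr ((S.hom.map_isConj h).trans hyg)))

/-- An element interchanging `t` with an involution of one of the classes of order twelve forces the product
not to be conjugate to `t`. -/
theorem no_swap {x : C576} (hx : IsConj aM x ∨ IsConj bM x) (h : IsConj S.t (S.hom (zM * x)))
    {g : G} (hg1 : g * S.t * g⁻¹ = S.hom x) (hg2 : g * S.hom x * g⁻¹ = S.t) : False := by
  obtain ⟨f, hf⟩ := isConj_iff.1 h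
  obtain ⟨p, hp, hpc⟩ := S.pull_ab (hx.elim (fun h => Or.inr (z_mul_a h)) fun h => Or.inl (z_mul_b h)) hf
  have hg3 : g * S.hom (zM * x) * g⁻¹ = S.hom (zM * x) := by
    rw [map_mul, S.map_z]
    calc g * (S.t * S.hom x) * g⁻¹ = g * S.t * g⁻¹ * (g * S.hom x * g⁻¹) := by group
      _ = S.hom x * S.t := by rw [hg1, hg2]
      _ = S.t * S.hom x := (S.commute_t x).eq
  have hgc : Commute (f⁻¹ * g * f) S.t := by
    rw [← commute_conj_iff f, show f * (f⁻¹ * g * f) * f⁻¹ = g by group, hf]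
    exact mul_inv_eq_iff_eq_mul.1 hg3
  obtain ⟨k, hk⟩ := S.exists_pre hgc
  have htx : S.t * S.hom (zM * x) = S.hom x := by
    rw [map_mul, S.map_z, ← mul_assoc, mul_self S.orderOf_t, one_mul]
  have e : S.hom (k * p * k⁻¹) = S.hom (zM * p) := by
    rw [map_mul, map_mul, map_inv, hk, hp, map_mul, S.map_z, hp]
    calc f⁻¹ * g * f * (f⁻¹ * S.t * f) * (f⁻¹ * g * f)⁻¹ = f⁻¹ * (g * S.t * g⁻¹) * f := by group
      _ = f⁻¹ * (S.t * S.hom (zM * x)) * f := by rw [hg1, htx]
      _ = f⁻¹ * S.t * f * (f⁻¹ * S.hom (zM * x) * f) := by group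
      _ = f⁻¹ * S.t * f * S.t := by rw [← hf]; group
      _ = S.t * (f⁻¹ * S.t * f) := by rw [← hp]; exact (S.commute_t p).eq
  have hc : IsConj p (zM * p) := isConj_iff.2 ⟨k, S.inj e⟩
  rcases hpc with h' | h'
  · exact not_a_and_b (h'.trans hc) (z_mul_a h')
  · exact not_a_and_b (z_mul_b h') (h'.trans hc)

variable (hG : ∀ H : Subgroup G, H.index ≠ 2)
include hG

/-- Thompson transfer. -/
theorem transfer {u : C576} (hu : u = aM ∨ u = bM) :
    IsConj S.t (S.hom u) ∨ IsConj (S.hom eM) (S.hom u) := by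
  obtain ⟨P, hP⟩ := S.exists_sylow
  have hle : subQ.map S.hom ≤ (P : Subgroup G) := by
    rw [hP]; exact Subgroup.map_mono fun x hx => (subQ_facts hx).1
  have hidx : (subQ.map S.hom).relIndex (P : Subgroup G) = 2 := by
    have h := Subgroup.card_mul_index ((subQ.map S.hom).subgroupOf (P : Subgroup G))
    rw [Nat.card_congr (Subgroup.subgroupOfEquivOfLe hle).toEquiv, ← Subgroup.relIndex, hP,
      Nat.card_congr (Subgroup.equivMapOfInjective sylS _ S.inj).toEquiv.symm,
      Nat.card_congr (Subgroup.equivMapOfInjective subQ _ S.inj).toEquiv.symm, card_sylS, card_subQ] at h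
    rw [hP]
    omega
  have hu2 : orderOf u = 2 := by rcases hu with rfl | rfl <;> [exact orders.2.1; exact orders.2.2.1]
  have huS : u ∈ sylS := by rcases hu with rfl | rfl <;> [exact reps_mem_sylS.2.1; exact reps_mem_sylS.2.2.1]
  have huQ : u ∉ subQ := fun h => by
    rcases hu with rfl | rfl
    exacts [(subQ_facts h).2.1 (IsConj.refl _), (subQ_facts h).2.2 (IsConj.refl _)]
  rcases CfsgLib.Fusion.ThompsonTransfer.thompson_transfer P _ hle hidx (S.hom u)
      (by rw [pow_two, ← map_mul, mul_self hu2, map_one])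
      (by rw [hP]; exact Subgroup.mem_map_of_mem _ huS)
      (fun h => huQ ((Subgroup.mem_map_iff_mem S.inj).1 h)) with ⟨M, -, hMi, -⟩ | ⟨g, hg⟩
  · exact absurd hMi (hG M)
  · obtain ⟨y, hy, hye⟩ := Subgroup.mem_map.1 hg
    have hyo : orderOf y = 2 := by rw [← S.orderOf_hom, hye, orderOf_conj, S.orderOf_hom, hu2]
    have hcy : IsConj (S.hom y) (S.hom u) := (isConj_iff.2 ⟨g, hye.symm⟩).symm
    rcases class_of_card hyo with ⟨rfl, -⟩ | ⟨h | h, -⟩ | ⟨h, -⟩
    · exact Or.inl (S.map_z ▸ hcy)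
    · exact absurd h (subQ_facts hy).2.1
    · exact absurd h (subQ_facts hy).2.2
    · exact Or.inr ((S.hom.map_isConj h).trans hcy)

theorem not_conj_e : ¬ IsConj S.t (S.hom eM) := by
  intro he
  have hta : ∀ u, u = aM ∨ u = bM → IsConj S.t (S.hom u) := fun u hu =>
    (S.transfer hG hu).elim id he.trans
  obtain ⟨h, hh⟩ := isConj_iff.1 (hta aM (Or.inl rfl))
  obtain ⟨p, hp, hpc⟩ := S.pull_ab (Or.inl (IsConj.refl _)) hh
  have key : ∀ k a' : C576, IsConj aM a' → Commute a' aM → a' ≠ aM → k * aM * k⁻¹ = a' → k * a' * k⁻¹ = aM →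
      ∃ q ∈ subQ, S.hom q = h⁻¹ * S.hom a' * h := by
    intro k a' hca hcm hne hk1 hk2
    have hc : Commute (h⁻¹ * S.hom a' * h) S.t := by
      rw [← commute_conj_iff h, show h * (h⁻¹ * S.hom a' * h) * h⁻¹ = S.hom a' by group, hh]
      exact hcm.map S.hom
    obtain ⟨q, hq⟩ := S.exists_pre hc
    have hq2 : orderOf q = 2 := by
      rw [← S.orderOf_hom, hq, show h⁻¹ * S.hom a' * h = h⁻¹ * S.hom a' * h⁻¹⁻¹ by group, orderOf_conj,
        S.orderOf_hom, ← hk1, orderOf_conj, orders.2.1]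
    have ek1 : S.hom k * S.hom aM * (S.hom k)⁻¹ = S.hom a' := by rw [← map_inv, ← map_mul, ← map_mul, hk1]
    have ek2 : S.hom k * S.hom a' * (S.hom k)⁻¹ = S.hom aM := by rw [← map_inv, ← map_mul, ← map_mul, hk2]
    rcases class_of_card hq2 with ⟨rfl, -⟩ | ⟨h', -⟩ | ⟨h', -⟩
    · exact absurd (S.inj (by rw [← hh, ← S.map_z, hq]; group)) hne
    · refine (S.no_swap h' ?_ (g := h⁻¹ * S.hom k * h) ?_ ?_).elim
      · rcases h' with h' | h'
        · exact (hta bM (Or.inr rfl)).trans (S.hom.map_isConj (z_mul_a h'))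
        · exact (hta aM (Or.inl rfl)).trans (S.hom.map_isConj (z_mul_b h'))
      · rw [hq, ← ek1, ← hh]; group
      · calc h⁻¹ * S.hom k * h * S.hom q * (h⁻¹ * S.hom k * h)⁻¹
            = h⁻¹ * (S.hom k * S.hom a' * (S.hom k)⁻¹) * h := by rw [hq]; group
          _ = S.t := by rw [ek2, ← hh]; group
    · exact ⟨q, mem_subQ_of_e h', hq⟩
  obtain ⟨q1, m1, e1⟩ := key ⟨18⟩ ⟨387⟩ (isConj_a.2 (by decide +kernel)) (commute_iff.2 (by decide +kernel))
    (by decide +kernel) (by decide +kernel) (by decide +kernel)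
  obtain ⟨q2, m2, e2⟩ := key ⟨38⟩ ⟨485⟩ (isConj_a.2 (by decide +kernel)) (commute_iff.2 (by decide +kernel))
    (by decide +kernel) (by decide +kernel) (by decide +kernel)
  obtain ⟨q3, m3, e3⟩ := key ⟨56⟩ ⟨575⟩ (isConj_a.2 (by decide +kernel)) (commute_iff.2 (by decide +kernel))
    (by decide +kernel) (by decide +kernel) (by decide +kernel)
  have ez : zM = aM * (⟨387⟩ : C576) * ((⟨485⟩ : C576) * ⟨575⟩) := by decide +kernel
  have hp' : S.hom p = S.hom (zM * q1 * (q2 * q3)) := by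
    rw [hp, map_mul, map_mul, map_mul, S.map_z, e1, e2, e3]
    conv_lhs => rw [← S.map_z, ez, map_mul, map_mul, map_mul, ← hh]
    group
  have hpQ : p ∈ subQ := S.inj hp' ▸
    subQ.mul_mem (subQ.mul_mem (mem_subQ.2 (by decide +kernel)) m1) (subQ.mul_mem m2 m3)
  exact hpc.elim (subQ_facts hpQ).2.1 (subQ_facts hpQ).2.2

theorem conj_a_or_b : IsConj S.t (S.hom aM) ∨ IsConj S.t (S.hom bM) := by
  haveI : Fact (Nat.Prime 2) := ⟨Nat.prime_two⟩
  obtain ⟨P, hP⟩ := S.exists_sylow
  have htP : S.t ∈ P := by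
    show S.t ∈ (P : Subgroup G)
    rw [hP, ← S.map_z]
    exact Subgroup.mem_map_of_mem _ reps_mem_sylS.1
  by_cases hiso : ∀ g : G, g * S.t * g⁻¹ ∈ P → g * S.t * g⁻¹ = S.t
  · exfalso
    obtain ⟨N, hN, hodd, hcomm⟩ := Cfsg.Agent.S0215.result P S.t S.orderOf_t htP hiso
    have hdec : ∀ g : G, ∃ d ∈ N, ∃ c, g = d * S.hom c := fun g => by
      have hm : S.t * (g * S.t * g⁻¹) ∈ N := by
        have := hcomm g
        rw [inv_eq S.orderOf_t] at this
        simpa [mul_assoc] using this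
      have ho : Odd (orderOf (S.t * (g * S.t * g⁻¹))) := by
        refine Odd.of_dvd_nat hodd ?_
        have := orderOf_dvd_natCard (⟨_, hm⟩ : N)
        rwa [← Subgroup.orderOf_coe] at this
      obtain ⟨d, hd, hdt⟩ := exists_conj_of_odd S.orderOf_t (by rw [orderOf_conj, S.orderOf_t]) ho
      have hc : Commute (d⁻¹ * g) S.t := by
        show d⁻¹ * g * S.t = S.t * (d⁻¹ * g)
        calc d⁻¹ * g * S.t = d⁻¹ * (g * S.t * g⁻¹) * g := by group
          _ = d⁻¹ * (d * S.t * d⁻¹) * g := by rw [hdt]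
          _ = _ := by group
      obtain ⟨c, hc'⟩ := S.exists_pre hc
      exact ⟨d, (Subgroup.zpowers_le.2 hm) hd, c, by rw [hc']; group⟩
    have hmem : ∀ d ∈ N, ∀ c, d * S.hom c ∈ N ⊔ half.map S.hom ↔ c ∈ half := by
      intro d hd c
      refine ⟨fun h => ?_, fun h => Subgroup.mul_mem_sup hd (Subgroup.mem_map_of_mem _ h)⟩
      obtain ⟨n, hn, _, ⟨m, hm, rfl⟩, he⟩ := Subgroup.mem_sup_of_normal_left.1 h
      have hw : S.hom (c * m⁻¹) ∈ N := by
        rw [map_mul, map_inv, show S.hom c * (S.hom m)⁻¹ = d⁻¹ * n from ?_]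
        · exact N.mul_mem (N.inv_mem hd) hn
        · rw [mul_inv_eq_iff_eq_mul, mul_assoc, he, inv_mul_cancel_left]
      have ho : Odd (orderOf (c * m⁻¹)) := by
        refine Odd.of_dvd_nat hodd ?_
        rw [← S.orderOf_hom]
        have := orderOf_dvd_natCard (⟨_, hw⟩ : N)
        rwa [← Subgroup.orderOf_coe] at this
      obtain ⟨i, hi⟩ := ho
      have hsq : c * m⁻¹ = (c * m⁻¹) ^ (i + 1) * (c * m⁻¹) ^ (i + 1) := by
        rw [← pow_add, show i + 1 + (i + 1) = orderOf (c * m⁻¹) + 1 by omega, pow_succ, pow_orderOf_eq_one,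
          one_mul]
      have hh : c * m⁻¹ ∈ half := by rw [hsq]; exact sq_mem_half _
      simpa using half.mul_mem hh hm
    refine hG (N ⊔ half.map S.hom) (Subgroup.index_eq_two_iff.2 ⟨S.hom aM, fun b => ?_⟩)
    obtain ⟨d, hd, c, rfl⟩ := hdec b
    rw [mul_assoc, ← map_mul, hmem d hd, hmem d hd, mul_mem_half]
    by_cases h : c ∈ half
    · exact Or.inr ⟨h, fun h' => aM_not_mem_half (h'.1 h)⟩
    · exact Or.inl ⟨⟨fun h' => absurd h' h, fun h' => absurd h' aM_not_mem_half⟩, h⟩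
  · push Not at hiso
    obtain ⟨g, hg, hne⟩ := hiso
    obtain ⟨y, -, hye⟩ := Subgroup.mem_map.1 (show g * S.t * g⁻¹ ∈ sylS.map S.hom from hP ▸ hg)
    have hyo : orderOf y = 2 := by rw [← S.orderOf_hom, hye, orderOf_conj, S.orderOf_t]
    have hty : IsConj S.t (S.hom y) := isConj_iff.2 ⟨g, hye.symm⟩
    rcases class_of_card hyo with ⟨rfl, -⟩ | ⟨h | h, -⟩ | ⟨h, -⟩
    · exact absurd (hye.symm.trans S.map_z) hne
    · exact Or.inl (hty.trans (S.hom.map_isConj h).symm)
    · exact Or.inr (hty.trans (S.hom.map_isConj h).symm)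
    · exact (S.not_conj_e hG (hty.trans (S.hom.map_isConj h).symm)).elim

/-- If `t` is conjugate to `aM` then `eM` is conjugate to `bM`. -/
theorem conj_e_b (ha : IsConj S.t (S.hom aM)) : IsConj (S.hom eM) (S.hom bM) := by
  obtain ⟨h, hh⟩ := isConj_iff.1 ha
  obtain ⟨p, hp, hpc⟩ := S.pull_ab (Or.inl (IsConj.refl _)) hh
  obtain ⟨p0, hp0, k, hk⟩ : ∃ p0, (p0 = aM ∨ p0 = bM) ∧ ∃ k, k * p * k⁻¹ = p0 := by
    rcases hpc with h' | h'
    · exact ⟨aM, Or.inl rfl, isConj_iff.1 h'.symm⟩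
    · exact ⟨bM, Or.inr rfl, isConj_iff.1 h'.symm⟩
  set f := h * (S.hom k)⁻¹ with hf
  have hft : f * S.t * f⁻¹ = S.hom aM := by
    rw [hf, ← hh]
    calc h * (S.hom k)⁻¹ * S.t * (h * (S.hom k)⁻¹)⁻¹ = h * ((S.hom k)⁻¹ * (S.t * S.hom k)) * h⁻¹ := by group
      _ = h * ((S.hom k)⁻¹ * (S.hom k * S.t)) * h⁻¹ := by rw [(S.commute_t k).eq]
      _ = h * S.t * h⁻¹ := by group
  have hfp : f * S.hom p0 * f⁻¹ = S.t := by
    rw [hf, ← hk, map_mul, map_mul, map_inv, hp]; group
  have himg : ∀ x : C576, Commute x p0 → ∃ x', Commute x' aM ∧ S.hom x' = f * S.hom x * f⁻¹ := fun x hx => by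
    have h1 : Commute (f * S.hom x * f⁻¹) S.t := by rw [← hfp, commute_conj_iff]; exact hx.map S.hom
    obtain ⟨x', hx'⟩ := S.exists_pre h1
    refine ⟨x', S.commute_hom_iff.1 ?_, hx'⟩
    rw [hx', ← hft, commute_conj_iff]
    exact S.commute_t x
  have hc : Commute (⟨4⟩ : C576) p0 ∧ Commute (⟨162⟩ : C576) p0 := by
    rcases hp0 with rfl | rfl <;> exact ⟨commute_iff.2 (by decide +kernel), commute_iff.2 (by decide +kernel)⟩
  obtain ⟨p', hp', ep⟩ := himg _ hc.1
  obtain ⟨q', hq', eq'⟩ := himg _ hc.2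
  set w : C576 := zM * ((⟨4⟩ : C576)⁻¹ * (⟨162⟩ : C576)⁻¹ * (⟨4⟩ * ⟨162⟩)) with hw
  have hwe : IsConj eM w := isConj_e.2 (by rw [hw]; decide +kernel)
  have hfw : S.hom (aM * (p'⁻¹ * q'⁻¹ * (p' * q'))) = f * S.hom w * f⁻¹ := by
    simp only [hw, map_mul, map_inv, ep, eq', S.map_z, ← hft]
    group
  have hcl : aM * (p'⁻¹ * q'⁻¹ * (p' * q')) = aM ∨ IsConj bM (aM * (p'⁻¹ * q'⁻¹ * (p' * q'))) := by
    have h1 := test comm_check p'
    rw [show commC p'.code.val 72 = true from code_aM ▸ commute_iff.1 hp'] at h1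
    simp only [Bool.not_true, Bool.false_or] at h1
    have h2 := test_range h1 q'
    rw [show commC q'.code.val 72 = true from code_aM ▸ commute_iff.1 hq'] at h2
    simp only [Bool.not_true, Bool.false_or, Bool.or_eq_true, Nat.beq_eq] at h2
    rw [C576.eq_iff, isConj_b, code_mul, code_commutator, code_aM]
    exact h2
  rcases hcl with e | e
  · exfalso
    rw [e, ← hft] at hfw
    exact (S.not_conj_e hG) (by
      rw [mul_left_cancel (mul_right_cancel hfw)]; exact S.hom.map_isConj hwe.symm)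
  · exact ((S.hom.map_isConj hwe).trans (isConj_iff.2 ⟨f, hfw.symm⟩)).trans (S.hom.map_isConj e).symm

omit hG in
/-- The embedding composed with the automorphism exchanging the classes of order twelve. -/
def twisted : Emb G where
  t := S.t
  hom := S.hom.comp twist.toMonoidHom
  inj := S.inj.comp twist.injective
  range_eq := by
    rw [← S.range_eq, MonoidHom.range_comp, MonoidHom.range_eq_top.2 twist.surjective, ← MonoidHom.range_eq_map]
  map_z := by simp [twist_zM, S.map_z]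

/-- The fusion, after a choice of the embedding. -/
theorem exists_normalised : ∃ T : Emb G, T.t = S.t ∧ IsConj T.t (T.hom aM) ∧
    IsConj (T.hom eM) (T.hom bM) ∧ ¬ IsConj T.t (T.hom eM) := by
  rcases S.conj_a_or_b hG with h | h
  · exact ⟨S, rfl, h, S.conj_e_b hG h, S.not_conj_e hG⟩
  · have h' : IsConj S.twisted.t (S.twisted.hom aM) := by simpa [twisted, twist_aM] using h
    exact ⟨S.twisted, rfl, h', S.twisted.conj_e_b hG h', S.twisted.not_conj_e hG⟩

end Emb

end CfsgLib.KGroups.PSpFourThree
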