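import Cfsg.Agent.Lib.KGroups.PSpFourThree.Far

/-!
# The group as a permutation group of degree forty-five
-/

set_option autoImplicit false
set_option maxRecDepth 40000
set_option linter.unusedSectionVars false
set_option linter.style.haveILetI false

namespace CfsgLib.KGroups.PSpFourThree

open C576 Subgroup CfsgLib.Involution.Dihedral

theorem gen_act_check : (genL.all fun c => (List.range 45).all fun i =>
    Nat.blt (actP c i) 45 && Nat.beq (actP (invN c) (actP c i)) i && Nat.beq (actP c (actP (invN c) i)) i) = true := by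
  decide +kernel

attribute [local irreducible] mulN invN commC inMask conjC commutC pow16 isFive hitsC powC isT isB isOuter
  actP sigP cosN nearIdx

theorem actP_lt (c : C576) {i : ℕ} (hi : i < 45) : actP c.code.val i < 45 := by
  have h := List.all_eq_true.1 (C576.test act_check c) i (List.mem_range.2 hi)
  exact Nat.le_of_ble_eq_true h

theorem sigP_spec {i : ℕ} (hi : i < 45) : sigP i < 45 ∧ sigP (sigP i) = i := by
  have h := List.all_eq_true.1 sig_check i (List.mem_range.2 hi)
  simp only [Bool.and_eq_true] at h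
  exact ⟨Nat.le_of_ble_eq_true h.1, Nat.eq_of_beq_eq_true h.2⟩

theorem actP_gen (s : Fin 2) {i : ℕ} (hi : i < 45) :
    actP (invN (genK s)) (actP (genK s) i) = i ∧ actP (genK s) (actP (invN (genK s)) i) = i := by
  have h := List.all_eq_true.1 (List.all_eq_true.1 gen_act_check _ (genK_mem s).1) i (List.mem_range.2 hi)
  simp only [Bool.and_eq_true] at h
  exact ⟨Nat.eq_of_beq_eq_true h.1.2, Nat.eq_of_beq_eq_true h.2⟩

/-- A generator on the forty-five points. -/
def actPerm (s : Fin 2) : Equiv.Perm (Fin 45) where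
  toFun i := ⟨actP (genM s).code.val i, actP_lt (genM s) i.2⟩
  invFun i := ⟨actP (genM s)⁻¹.code.val i, actP_lt (genM s)⁻¹ i.2⟩
  left_inv i := Fin.ext (actP_gen s i.2).1
  right_inv i := Fin.ext (actP_gen s i.2).2

/-- The further involution on the forty-five points. -/
def sigPerm : Equiv.Perm (Fin 45) where
  toFun i := ⟨sigP i, (sigP_spec i.2).1⟩
  invFun i := ⟨sigP i, (sigP_spec i.2).1⟩
  left_inv i := Fin.ext (sigP_spec i.2).2
  right_inv i := Fin.ext (sigP_spec i.2).2

/-- The group of degree forty-five. -/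
def H45 : Subgroup (Equiv.Perm (Fin 45)) := Subgroup.closure (Set.range actPerm ∪ {sigPerm})

/-- The element with a given code. -/
def el (n : ℕ) : C576 := ⟨Fin.ofNat 576 n⟩

theorem code_el {n : ℕ} (h : n < 576) : (el n).code.val = n := Nat.mod_eq_of_lt h

theorem el_code (x : C576) : el x.code.val = x := C576.eq_iff.2 (code_el x.code.2)

theorem nearL_spec {n : ℕ} (hn : n < 12) :
    IsConj aM (el (nearL.getD n 0)) ∧ (el (nearL.getD n 0)).code.val = nearL.getD n 0 ∧
      nearIdx (nearL.getD n 0) = n := by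
  have h := List.all_eq_true.1 nearL_check n (List.mem_range.2 hn)
  simp only [Bool.and_eq_true] at h
  have e := code_el (Nat.le_of_ble_eq_true h.1.2)
  exact ⟨isConj_a.2 (by rw [e]; exact h.1.1), e, Nat.eq_of_beq_eq_true h.2⟩

theorem nearIdx_spec {x : C576} (hx : IsConj aM x) :
    nearIdx x.code.val < 12 ∧ el (nearL.getD (nearIdx x.code.val) 0) = x := by
  have h := C576.test near_check x
  rw [isConj_a.1 hx] at h
  simp only [Bool.not_true, Bool.false_or, Bool.and_eq_true] at h
  exact ⟨Nat.le_of_ble_eq_true h.1, by rw [Nat.eq_of_beq_eq_true h.2, el_code]⟩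

theorem repL_spec {j : ℕ} (hj : j < 32) : (el (repL.getD j 0)).code.val = repL.getD j 0 := by
  have h := List.all_eq_true.1 repL_check.1 j (List.mem_range.2 hj)
  simp only [Bool.and_eq_true] at h
  exact code_el (Nat.le_of_ble_eq_true h.1)

theorem repL_inj {i j : ℕ} (hi : i < 32) (hj : j < 32)
    (h : (el (repL.getD i 0))⁻¹ * el (repL.getD j 0) ∈ subM0) : i = j := by
  have h' := List.all_eq_true.1 repL_check.1 j (List.mem_range.2 hj)
  simp only [Bool.and_eq_true] at h'
  have h'' := List.all_eq_true.1 h'.2 i (List.mem_range.2 hi)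
  rw [mem_subM0, code_mul, code_inv, repL_spec hi, repL_spec hj] at h
  rw [h] at h''
  simpa using h''

theorem cos_spec (c : C576) : cosN c.code.val < 32 ∧ (el (repL.getD (cosN c.code.val) 0))⁻¹ * c ∈ subM0 := by
  have h := C576.test cos_check c
  simp only [Bool.and_eq_true] at h
  have hlt := Nat.le_of_ble_eq_true h.1
  exact ⟨hlt, mem_subM0.2 (by rw [code_mul, code_inv, repL_spec hlt]; exact h.2)⟩

namespace Emb

variable {G : Type*} [Group G] [Finite G] (S : Emb G)

/-- The points. -/
def pt (d : G) (i : ℕ) : G :=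
  if i = 0 then S.t
  else if i ≤ 12 then S.hom (el (nearL.getD (i - 1) 0))
  else S.hom (el (repL.getD (i - 13) 0)) * d * (S.hom (el (repL.getD (i - 13) 0)))⁻¹

/-- A base far point. -/
structure Base (d : G) : Prop where
  fused : Fused S
  conj : IsConj S.t d
  far : ¬ Commute d S.t
  stab : S.stabOf d = subM0

variable {d : G} (hd : S.Base d)

theorem pt_zero : S.pt d 0 = S.t := by simp [pt]

theorem pt_near {n : ℕ} (hn : n < 12) : S.pt d (1 + n) = S.hom (el (nearL.getD n 0)) := by
  rw [pt, if_neg (by omega), if_pos (by omega), show 1 + n - 1 = n by omega]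

theorem pt_rep {j : ℕ} : S.pt d (13 + j) = S.hom (el (repL.getD j 0)) * d * (S.hom (el (repL.getD j 0)))⁻¹ := by
  rw [pt, if_neg (by omega), if_neg (by omega), show 13 + j - 13 = j by omega]

include hd

theorem commute_iff_M0 {c : C576} : Commute (S.hom c) d ↔ inMask maskM0 c.code.val = true := by
  rw [← S.mem_stabOf, hd.stab, mem_subM0]

theorem far_of (c : C576) : S.hom c * d * (S.hom c)⁻¹ = S.pt d (13 + cosN c.code.val) := by
  rw [S.pt_rep]
  set r := el (repL.getD (cosN c.code.val) 0)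
  have h : Commute (S.hom (r⁻¹ * c)) d := S.mem_stabOf.1 (hd.stab.symm ▸ (cos_spec c).2)
  calc S.hom c * d * (S.hom c)⁻¹ = S.hom r * (S.hom (r⁻¹ * c) * d) * (S.hom (r⁻¹ * c))⁻¹ * (S.hom r)⁻¹ := by
        rw [map_mul, map_inv]; group
    _ = _ := by rw [h.eq, ← mul_assoc, mul_inv_cancel_right]

theorem pt_act (c : C576) {i : ℕ} (hi : i < 45) : S.hom c * S.pt d i * (S.hom c)⁻¹ = S.pt d (actP c.code.val i) := by
  rcases Nat.eq_zero_or_pos i with rfl | hpos
  · have e : actP c.code.val 0 = 0 := by unfold actP; simp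
    rw [e, S.pt_zero, (S.commute_t c).eq, mul_inv_cancel_right]
  rcases Nat.lt_or_ge i 13 with h | h
  · obtain ⟨n, rfl⟩ : ∃ n, i = 1 + n := ⟨i - 1, by omega⟩
    have hn : n < 12 := by omega
    obtain ⟨hx, hxc, -⟩ := nearL_spec hn
    set x := el (nearL.getD n 0)
    have hcx : IsConj aM (c * x * c⁻¹) := hx.trans (isConj_iff.2 ⟨c, rfl⟩)
    have e : actP c.code.val (1 + n) = 1 + nearIdx (c * x * c⁻¹).code.val := by
      unfold actP
      rw [if_neg (by omega), if_pos (by omega), show 1 + n - 1 = n by omega, code_conj, hxc]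
    rw [e, S.pt_near (nearIdx_spec hcx).1, (nearIdx_spec hcx).2, S.pt_near hn, map_mul, map_mul, map_inv]
  · obtain ⟨j, rfl⟩ : ∃ j, i = 13 + j := ⟨i - 13, by omega⟩
    have hj : j < 32 := by omega
    have e : actP c.code.val (13 + j) = 13 + cosN (c * el (repL.getD j 0)).code.val := by
      unfold actP
      rw [if_neg (by omega), if_neg (by omega), show 13 + j - 13 = j by omega, code_mul, repL_spec hj]
    rw [e, ← S.far_of hd, S.pt_rep, map_mul]
    group

theorem pt_conj {i : ℕ} (hi : i < 45) : IsConj S.t (S.pt d i) := by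
  rcases Nat.eq_zero_or_pos i with rfl | hpos
  · rw [S.pt_zero]
  rcases Nat.lt_or_ge i 13 with h | h
  · obtain ⟨n, rfl⟩ : ∃ n, i = 1 + n := ⟨i - 1, by omega⟩
    rw [S.pt_near (by omega)]
    exact (S.conj_t_iff hd.fused).2 (Or.inr (nearL_spec (by omega)).1)
  · obtain ⟨j, rfl⟩ : ∃ j, i = 13 + j := ⟨i - 13, by omega⟩
    rw [S.pt_rep]
    exact hd.conj.trans (isConj_iff.2 ⟨_, rfl⟩)

theorem commute_pt_t {i : ℕ} (hi : i < 45) : Commute (S.pt d i) S.t ↔ i < 13 := by
  rcases Nat.lt_or_ge i 13 with h | h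
  · refine iff_of_true ?_ h
    rcases Nat.eq_zero_or_pos i with rfl | hpos
    · rw [S.pt_zero]
    · obtain ⟨n, rfl⟩ : ∃ n, i = 1 + n := ⟨i - 1, by omega⟩
      rw [S.pt_near (by omega)]
      exact S.commute_t _
  · refine iff_of_false (fun hc => hd.far ?_) (by omega)
    obtain ⟨j, rfl⟩ : ∃ j, i = 13 + j := ⟨i - 13, by omega⟩
    rw [S.pt_rep] at hc
    rw [← commute_conj_iff (S.hom (el (repL.getD j 0)))]
    rwa [(S.commute_t (el (repL.getD j 0))).eq, mul_inv_cancel_right]

/-- The points as conjugates of `t`. -/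
def ptFin (i : Fin 45) : {g : G // IsConj S.t g} := ⟨S.pt d i, S.pt_conj hd i.2⟩

theorem ptFin_bijective : Function.Bijective (S.ptFin hd) := by
  refine (Nat.bijective_iff_injective_and_card _).2 ⟨fun a b e => Fin.ext ?_, by
    rw [Nat.card_fin, S.card_class hd.fused]⟩
  replace e : S.pt d a = S.pt d b := congrArg Subtype.val e
  have hiff : (a : ℕ) < 13 ↔ (b : ℕ) < 13 := by
    rw [← S.commute_pt_t hd a.2, ← S.commute_pt_t hd b.2, e]
  obtain ⟨a, ha⟩ := a
  obtain ⟨b, hb⟩ := b
  dsimp only at *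
  rcases Nat.lt_or_ge a 13 with h | h
  · have hb' := hiff.1 h
    have key : ∀ n, n < 12 → S.pt d (1 + n) ≠ S.t := fun n hn he => by
      rw [S.pt_near hn, ← S.map_z] at he
      have ha := (nearL_spec hn).1
      rw [S.inj he] at ha
      exact absurd (isConj_a.1 ha) (by decide +kernel)
    rcases Nat.eq_zero_or_pos a with rfl | hap
    · rcases Nat.eq_zero_or_pos b with rfl | hbp
      · rfl
      · obtain ⟨n, rfl⟩ : ∃ n, b = 1 + n := ⟨b - 1, by omega⟩
        rw [S.pt_zero] at e
        exact absurd e.symm (key n (by omega))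
    · obtain ⟨m, rfl⟩ : ∃ m, a = 1 + m := ⟨a - 1, by omega⟩
      rcases Nat.eq_zero_or_pos b with rfl | hbp
      · rw [S.pt_zero] at e
        exact absurd e (key m (by omega))
      · obtain ⟨n, rfl⟩ : ∃ n, b = 1 + n := ⟨b - 1, by omega⟩
        rw [S.pt_near (by omega), S.pt_near (by omega)] at e
        have e' := congrArg (fun x => nearIdx x.code.val) (S.inj e)
        simp only [(nearL_spec (show m < 12 by omega)).2.1, (nearL_spec (show n < 12 by omega)).2.1,
          (nearL_spec (show m < 12 by omega)).2.2, (nearL_spec (show n < 12 by omega)).2.2] at e'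
        omega
  · have hb' : ¬ b < 13 := fun h' => by have := hiff.2 h'; omega
    obtain ⟨i, rfl⟩ : ∃ i, a = 13 + i := ⟨a - 13, by omega⟩
    obtain ⟨j, rfl⟩ : ∃ j, b = 13 + j := ⟨b - 13, by omega⟩
    rw [S.pt_rep, S.pt_rep] at e
    have hm : (el (repL.getD i 0))⁻¹ * el (repL.getD j 0) ∈ subM0 := by
      rw [← hd.stab, S.mem_stabOf, map_mul, map_inv]
      set u := S.hom (el (repL.getD i 0))
      set v := S.hom (el (repL.getD j 0))
      show u⁻¹ * v * d = d * (u⁻¹ * v)
      calc u⁻¹ * v * d = u⁻¹ * (v * d * v⁻¹) * v := by group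
        _ = _ := by rw [← e]; group
    rw [repL_inj (by omega) (by omega) hm]

/-- The points, as an equivalence. -/
noncomputable def ptEquiv : Fin 45 ≃ {g : G // IsConj S.t g} := Equiv.ofBijective _ (S.ptFin_bijective hd)

theorem pt_sig {i : ℕ} (hi : i < 45) : d * S.pt d i * d = S.pt d (sigP i) := by
  have hF := hd.fused
  have hd2 : d * d = 1 := mul_self ((orderOf_conj_eq hd.conj).trans S.orderOf_t)
  have hbr : d * S.t * d = S.t * d * S.t := S.braid hF hd.conj (IsConj.refl _) hd.far
  have hinv : ∀ {x : C576}, IsConj aM x → (S.hom x)⁻¹ = S.hom x := fun {x} hx =>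
    inv_eq ((orderOf_conj_eq ((S.conj_t_iff hF).2 (Or.inr hx))).trans S.orderOf_t)
  have hfar0 : S.pt d (13 + cosN 9) = S.t * d * S.t := by
    rw [← code_zM, ← S.far_of hd, S.map_z, inv_eq S.orderOf_t]
  have h13 : S.pt d 13 = d := by
    have e0 : el (repL.getD 0 0) = 1 := C576.eq_iff.2 (by rw [repL_check.2]; decide +kernel)
    rw [show (13 : ℕ) = 13 + 0 from rfl, S.pt_rep, e0, map_one, inv_one, one_mul, mul_one]
  have hact : ∀ (x : C576), IsConj aM x → ∀ i < 45,
      S.hom x * S.pt d i * S.hom x = S.pt d (actP x.code.val i) := fun x hx i hi => by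
    rw [← S.pt_act hd x hi, hinv hx]
  have hcos9 : 13 + cosN 9 < 45 := by
    have := (cos_spec zM).1
    rw [code_zM] at this
    omega
  have hb := base_check
  simp only [Bool.and_eq_true, Nat.beq_eq, List.all_eq_true, List.mem_range, decide_eq_true_eq] at hb
  obtain ⟨⟨⟨b0, b1⟩, b2⟩, b3⟩ := hb
  let K : ℕ → Prop := fun i => i < 45 ∧ d * S.pt d i * d = S.pt d (sigP i)
  have k0 : K 0 := ⟨by norm_num, by rw [b0, hfar0, S.pt_zero, hbr]⟩
  have k1 : K (13 + cosN 9) := ⟨hcos9, by
    rw [b1, S.pt_zero, hfar0, ← hbr]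
    calc d * (d * S.t * d) * d = d * d * S.t * (d * d) := by group
      _ = S.t := by rw [hd2, one_mul, mul_one]⟩
  have k2 : K 13 := ⟨by norm_num, by rw [b2, h13, hd2, one_mul]⟩
  have k3 : ∀ n < 12, K (1 + n) ∧ (inMask maskM0 (nearL.getD n 0) = false →
      K (13 + cosN (nearL.getD n 0)) ∧ K (actP (nearL.getD n 0) (13 + cosN 9))) := by
    intro n hn
    obtain ⟨hx, hxc, -⟩ := nearL_spec hn
    set x := el (nearL.getD n 0) with hxdef
    have hb3 := b3 n hn
    by_cases hm : inMask maskM0 (nearL.getD n 0) = true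
    · rw [if_pos hm] at hb3
      refine ⟨⟨by omega, ?_⟩, fun h => absurd hm (by rw [h]; simp)⟩
      rw [Nat.eq_of_beq_eq_true hb3, S.pt_near hn, ← hxdef]
      have hc : Commute (S.hom x) d := (S.commute_iff_M0 hd).2 (by rw [hxc]; exact hm)
      rw [← hc.eq, mul_assoc, hd2, mul_one]
    · rw [if_neg hm] at hb3
      simp only [Bool.and_eq_true, Nat.beq_eq] at hb3
      have hc : ¬ Commute d (S.hom x) := fun h => hm (by rw [← hxc]; exact (S.commute_iff_M0 hd).1 h.symm)
      have hbx := S.braid hF hd.conj ((S.conj_t_iff hF).2 (Or.inr hx)) hc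
      have hp : S.pt d (13 + cosN (nearL.getD n 0)) = S.hom x * d * S.hom x := by
        rw [← hxc, ← S.far_of hd, hinv hx]
      refine ⟨⟨by omega, by rw [hb3.1.1, S.pt_near hn, ← hxdef, hp, hbx]⟩, fun _ => ⟨⟨?_, ?_⟩, ⟨?_, ?_⟩⟩⟩
      · have := (cos_spec x).1
        rw [hxc] at this
        omega
      · rw [hb3.1.2, hp, S.pt_near hn, ← hxdef, ← hbx]
        calc d * (d * S.hom x * d) * d = d * d * S.hom x * (d * d) := by group
          _ = _ := by rw [hd2, one_mul, mul_one]
      · rw [← hxc]; exact actP_lt x hcos9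
      · rw [hb3.2, ← hxc, ← hact x hx _ hcos9, hfar0]
        have hxt : S.hom x * S.t = S.t * S.hom x := (S.commute_t x).eq
        have hxx : S.hom x * S.hom x = 1 := by
          nth_rw 1 [← hinv hx]
          rw [inv_mul_cancel]
        calc d * (S.hom x * (S.t * d * S.t) * S.hom x) * d = d * S.hom x * (d * S.t * d) * (S.hom x * d) := by
              rw [hbr]; group
          _ = d * S.hom x * d * S.t * (d * S.hom x * d) := by group
          _ = S.hom x * d * (S.hom x * S.t) * (S.hom x * d * S.hom x) := by rw [hbx]; group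
          _ = S.hom x * d * S.t * (S.hom x * S.hom x) * d * S.hom x := by rw [hxt]; group
          _ = S.hom x * (d * S.t * d) * S.hom x := by rw [hxx]; group
          _ = _ := by rw [hbr]
  have key : ∀ (l : List (ℕ × ℕ)) (known : List ℕ), (∀ i ∈ known, K i) → chain l known = true →
      ∀ i < 45, K i := by
    intro l
    induction l with
    | nil =>
      intro known hk hc i hi
      have h := List.all_eq_true.1 hc i (List.mem_range.2 hi)
      simp only [inList, List.any_eq_true, Nat.beq_eq] at h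
      obtain ⟨j, hj, rfl⟩ := h
      exact hk _ hj
    | cons p l ih =>
      obtain ⟨k, h⟩ := p
      intro known hk hc
      simp only [chain, Bool.and_eq_true] at hc
      obtain ⟨⟨⟨hkn, hh⟩, hstep⟩, hrest⟩ := hc
      refine ih _ (List.forall_mem_cons.2 ⟨?_, hk⟩) hrest
      simp only [inList, List.any_eq_true, Nat.beq_eq] at hkn hh
      obtain ⟨k', hk', rfl⟩ := hkn
      obtain ⟨h', hh', rfl⟩ := hh
      obtain ⟨hlt, heq⟩ := hk h hh'
      obtain ⟨hx, hxc⟩ : IsConj aM (el k) ∧ (el k).code.val = k := by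
        obtain ⟨n, hn, rfl⟩ := List.getElem_of_mem hk'
        have hn' : n < 12 := by simpa [nearL] using hn
        rw [show nearL[n] = nearL.getD n 0 from (List.getElem_eq_getD 0)]
        exact ⟨(nearL_spec hn').1, (nearL_spec hn').2.1⟩
      set x := el k
      have hxx : S.hom x * S.hom x = 1 := by
        nth_rw 1 [← hinv hx]
        rw [inv_mul_cancel]
      refine ⟨hxc ▸ actP_lt x hlt, ?_⟩
      have hsl := (sigP_spec hlt).1
      by_cases hm : inMask maskM0 k = true
      · rw [if_pos hm] at hstep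
        rw [Nat.eq_of_beq_eq_true hstep, ← hxc, ← hact x hx _ hlt, ← hact x hx _ hsl, ← heq]
        have hcx : d * S.hom x = S.hom x * d := ((S.commute_iff_M0 hd).2 (by rw [hxc]; exact hm)).eq.symm
        calc d * (S.hom x * S.pt d h * S.hom x) * d = d * S.hom x * S.pt d h * (S.hom x * d) := by group
          _ = S.hom x * d * S.pt d h * (d * S.hom x) := by rw [hcx]
          _ = _ := by group
      · rw [if_neg hm] at hstep
        simp only [Bool.and_eq_true, inList, List.any_eq_true, Nat.beq_eq] at hstep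
        obtain ⟨⟨u, hu, hue⟩, hs⟩ := hstep
        obtain ⟨hul, hueq⟩ := hk u hu
        have hc : ¬ Commute d (S.hom x) := fun h => hm (by rw [← hxc]; exact (S.commute_iff_M0 hd).1 h.symm)
        have hbx := S.braid hF hd.conj ((S.conj_t_iff hF).2 (Or.inr hx)) hc
        rw [hue] at hs
        rw [hs, ← hxc, ← hact x hx _ hlt, ← hact x hx _ (sigP_spec hul).1, ← hueq, ← hue, ← hxc,
          ← hact x hx _ hsl, ← heq]
        calc d * (S.hom x * S.pt d h * S.hom x) * d
            = d * S.hom x * d * (d * S.pt d h * d) * (d * S.hom x * d) := by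
              rw [show d * S.hom x * d * (d * S.pt d h * d) * (d * S.hom x * d) =
                d * S.hom x * (d * d) * S.pt d h * (d * d) * S.hom x * d by group, hd2]
              group
          _ = _ := by rw [hbx]; group
  refine (key stepL baseL ?_ chain_check i hi).2
  intro j hj
  simp only [baseL, List.mem_append, List.mem_cons, List.not_mem_nil, or_false, List.mem_map, List.mem_range,
    List.mem_flatMap, List.mem_filter, Bool.not_eq_true'] at hj
  rcases hj with ((rfl | rfl | rfl) | ⟨n, hn, rfl⟩) | ⟨x, ⟨hx, hm⟩, hj⟩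
  · exact k0
  · exact k2
  · exact k1
  · exact (k3 n hn).1
  · obtain ⟨n, hn, rfl⟩ := List.getElem_of_mem hx
    have hn' : n < 12 := by simpa [nearL] using hn
    rw [show nearL[n] = nearL.getD n 0 from (List.getElem_eq_getD 0)] at hm hj
    rcases hj with rfl | rfl
    exacts [((k3 n hn').2 hm).1, ((k3 n hn').2 hm).2]

/-- Conjugation on the points. -/
noncomputable def toH : G →* Equiv.Perm (Fin 45) where
  toFun g :=
    { toFun := fun i => (S.ptEquiv hd).symm ⟨g * (S.ptEquiv hd i).1 * g⁻¹,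
        (S.ptEquiv hd i).2.trans (isConj_iff.2 ⟨g, rfl⟩)⟩
      invFun := fun i => (S.ptEquiv hd).symm ⟨g⁻¹ * (S.ptEquiv hd i).1 * g⁻¹⁻¹,
        (S.ptEquiv hd i).2.trans (isConj_iff.2 ⟨g⁻¹, rfl⟩)⟩
      left_inv := fun i => (S.ptEquiv hd).symm_apply_eq.2 (Subtype.ext (by
        simp only [Equiv.apply_symm_apply]; group))
      right_inv := fun i => (S.ptEquiv hd).symm_apply_eq.2 (Subtype.ext (by
        simp only [Equiv.apply_symm_apply]; group)) }
  map_one' := Equiv.ext fun i => (S.ptEquiv hd).symm_apply_eq.2 (Subtype.ext (by simp))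
  map_mul' g h := Equiv.ext fun i => (S.ptEquiv hd).symm_apply_eq.2 (Subtype.ext (by
    simp only [Equiv.Perm.mul_apply, Equiv.coe_fn_mk, Equiv.apply_symm_apply]; group))

theorem toH_apply {g : G} {i j : Fin 45} (h : g * S.pt d i * g⁻¹ = S.pt d j) : S.toH hd g i = j :=
  (S.ptEquiv hd).symm_apply_eq.2 (Subtype.ext h)

theorem toH_hom (s : Fin 2) : S.toH hd (S.hom (genM s)) = actPerm s :=
  Equiv.ext fun i => S.toH_apply hd (S.pt_act hd (genM s) i.2)

theorem toH_d : S.toH hd d = sigPerm := by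
  refine Equiv.ext fun i => S.toH_apply hd ?_
  rw [inv_eq ((orderOf_conj_eq hd.conj).trans S.orderOf_t)]
  exact S.pt_sig hd i.2

theorem generate : Subgroup.closure (Set.range (fun s => S.hom (genM s)) ∪ {d}) = ⊤ := by
  set H := Subgroup.closure (Set.range (fun s => S.hom (genM s)) ∪ {d})
  have hC : ∀ c, S.hom c ∈ H := fun c => by
    have h : (Subgroup.closure (Set.range genM)).map S.hom ≤ H := by
      rw [MonoidHom.map_closure, ← Set.range_comp]
      exact Subgroup.closure_mono Set.subset_union_left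
    exact h (Subgroup.mem_map_of_mem _ (closure_genM ▸ Subgroup.mem_top c))
  have hdH : d ∈ H := Subgroup.subset_closure (Set.mem_union_right _ rfl)
  have htH : S.t ∈ H := S.map_z ▸ hC zM
  let R : G → Prop := fun u => ∃ h ∈ H, h * S.t * h⁻¹ = u
  have hR : ∀ k ∈ H, ∀ u, R u → R (k * u * k⁻¹) := by
    rintro k hk u ⟨h, hh, rfl⟩
    exact ⟨k * h, H.mul_mem hk hh, by group⟩
  have hbr : d * S.t * d = S.t * d * S.t := S.braid hd.fused hd.conj (IsConj.refl _) hd.far
  have hd2 : d⁻¹ = d := inv_eq ((orderOf_conj_eq hd.conj).trans S.orderOf_t)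
  have ht2 : S.t⁻¹ = S.t := inv_eq S.orderOf_t
  have hRd : R d := ⟨S.t * d, H.mul_mem htH hdH, by
    rw [mul_inv_rev, hd2, ht2]
    calc S.t * d * S.t * (d * S.t) = S.t * (d * S.t * d) * S.t := by group
      _ = S.t * S.t * d * (S.t * S.t) := by rw [hbr]; group
      _ = d := by rw [mul_self S.orderOf_t, one_mul, mul_one]⟩
  set x0 : C576 := ⟨387⟩
  have hx0 : IsConj aM x0 := isConj_a.2 (by decide +kernel)
  have hRx : R (S.hom x0) := by
    have hc : ¬ Commute d (S.hom x0) := fun h =>
      absurd ((S.commute_iff_M0 hd).1 h.symm) (by decide +kernel)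
    have hbx := S.braid hd.fused hd.conj ((S.conj_t_iff hd.fused).2 (Or.inr hx0)) hc
    have hxi : (S.hom x0)⁻¹ = S.hom x0 :=
      inv_eq ((orderOf_conj_eq ((S.conj_t_iff hd.fused).2 (Or.inr hx0))).trans S.orderOf_t)
    have := hR d hdH _ (hR (S.hom x0) (hC x0) d hRd)
    rwa [hxi, ← hbx, show d * (d * S.hom x0 * d) * d⁻¹ = d * d * S.hom x0 * (d * d⁻¹) by group,
      mul_inv_cancel, mul_one, show d * d = 1 by nth_rw 2 [← hd2]; rw [mul_inv_cancel], one_mul] at this
  have hRall : ∀ u, IsConj S.t u → R u := by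
    intro u hu
    obtain ⟨i, hi⟩ := (S.ptFin_bijective hd).2 ⟨u, hu⟩
    have e : S.pt d i = u := congrArg Subtype.val hi
    rw [← e]
    rcases Nat.eq_zero_or_pos (i : ℕ) with h0 | h0
    · rw [h0, S.pt_zero]; exact ⟨1, H.one_mem, by simp⟩
    rcases Nat.lt_or_ge (i : ℕ) 13 with h | h
    · obtain ⟨n, hn⟩ : ∃ n, (i : ℕ) = 1 + n := ⟨i - 1, by omega⟩
      rw [hn, S.pt_near (by omega)]
      obtain ⟨k, hk⟩ := isConj_iff.1 (hx0.symm.trans (nearL_spec (show n < 12 by omega)).1)
      rw [← hk, map_mul, map_mul, map_inv]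
      exact hR _ (hC k) _ hRx
    · obtain ⟨j, hj⟩ : ∃ j, (i : ℕ) = 13 + j := ⟨i - 13, by omega⟩
      rw [hj, S.pt_rep]
      exact hR _ (hC _) _ hRd
  refine eq_top_iff.2 fun g _ => ?_
  obtain ⟨h, hh, he⟩ := hRall (g * S.t * g⁻¹) (isConj_iff.2 ⟨g, rfl⟩)
  obtain ⟨c, hc⟩ := S.exists_pre (show Commute (h⁻¹ * g) S.t by
    show h⁻¹ * g * S.t = S.t * (h⁻¹ * g)
    calc _ = h⁻¹ * (g * S.t * g⁻¹) * g := by group
      _ = h⁻¹ * (h * S.t * h⁻¹) * g := by rw [he]
      _ = _ := by group)
  have := H.mul_mem hh (hc ▸ hC c : h⁻¹ * g ∈ H)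
  rwa [mul_inv_cancel_left] at this

theorem toH_injective : Function.Injective (S.toH hd) := by
  refine (injective_iff_map_eq_one _).2 fun g hg => ?_
  have hfix : ∀ u, IsConj S.t u → g * u * g⁻¹ = u := fun u hu => by
    obtain ⟨i, hi⟩ := (S.ptEquiv hd).surjective ⟨u, hu⟩
    have h : S.toH hd g i = i := by rw [hg]; rfl
    have h' := congrArg Subtype.val ((S.ptEquiv hd).symm_apply_eq.1 h)
    dsimp only at h'
    rw [show ((S.ptEquiv hd) i).1 = u from congrArg Subtype.val hi] at h'
    exact h'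
  obtain ⟨c, rfl⟩ := S.exists_pre (mul_inv_eq_iff_eq_mul.1 (hfix S.t (IsConj.refl _)))
  rcases eq_one_or_z_of_comm fun x hx => S.commute_hom_iff.1
    (mul_inv_eq_iff_eq_mul.1 (hfix (S.hom x) ((S.conj_t_iff hd.fused).2 (Or.inr hx)))) with rfl | rfl
  · exact map_one _
  · exact (hd.far (show Commute d S.t by
      rw [← S.map_z]
      exact (show Commute (S.hom zM) d from mul_inv_eq_iff_eq_mul.1 (hfix d hd.conj)).symm)).elim

theorem iso_H45 : Nonempty (G ≃* H45) := by
  refine ⟨(MonoidHom.ofInjective (S.toH_injective hd)).trans (MulEquiv.subgroupCongr ?_)⟩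
  rw [MonoidHom.range_eq_map, ← S.generate hd, MonoidHom.map_closure, Set.image_union, Set.image_singleton,
    ← Set.range_comp, S.toH_d hd, H45]
  congr 2
  exact congrArg Set.range (funext (S.toH_hom hd))

omit hd

/-- A group with this centraliser, the fusion being known, is the group of degree forty-five. -/
theorem exists_iso (hF : Fused S) : Nonempty (G ≃* H45) := by
  obtain ⟨d, h1, h2, h3⟩ := S.exists_base hF
  exact S.iso_H45 ⟨hF, h1, h2, h3⟩

end Emb

end CfsgLib.KGroups.PSpFourThree
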