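import Cfsg.Agent.Lib.KGroups.PSpFourThree.Ident
import Cfsg.Agent.Lib.Recognition.USixTwoOuter.Gens
import Cfsg.Agent.Lib.Involution.Count

/-!
# The group `PSp₄(3)` by the centraliser of a 2-central involution
-/

set_option autoImplicit false
set_option maxRecDepth 100000
set_option linter.unusedSectionVars false
set_option linter.style.haveILetI false

namespace CfsgLib.KGroups.PSpFourThree

open C576 Subgroup CfsgLib.Involution.Dihedral
open CfsgLib.Recognition.USixTwoOuter (P40 gc K40 gc_mem)
open CfsgLib.Classical.PSpThree (perms exists_psp psp_congr')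

theorem range_gc (c : Fin 40 → P40) (hc : ∀ v i, c v i = perms v i) : c = gc :=
  funext fun v => Equiv.ext fun i => hc v i

theorem card_forty : Nat.card K40 = 25920 := by
  obtain ⟨φ, -, hcard, c, hc, hr⟩ := exists_psp
  rw [← hcard, hr, range_gc c hc]
  rfl

theorem exists_iso_forty {F : Type*} [Field F] [Fintype F] (hF : Fintype.card F = 3) :
    Nonempty (Cfsg.PSp 2 F ≃* K40) := by
  haveI : Fact (Nat.Prime 3) := ⟨by norm_num⟩
  obtain ⟨φ, hker, -, c, hc, hr⟩ := exists_psp
  obtain ⟨j⟩ := psp_congr' (FiniteField.ringEquivOfCardEq (K := F) (K' := ZMod 3) (by rw [hF, ZMod.card])) 2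
  refine ⟨j.trans (((QuotientGroup.quotientMulEquivOfEq hker.symm).trans
    (QuotientGroup.quotientKerEquivRange φ)).trans (MulEquiv.subgroupCongr ?_))⟩
  rw [hr, range_gc c hc]
  rfl

theorem gen_words : ∀ s, permC (genK s) = ((genWords s).map gc).prod := by decide +kernel

theorem conjTab_zero : ∀ i, conjTab 0 i = permC 9 i := by decide +kernel

theorem conjTab_step : ∀ j, j = 0 ∨ ((conjPar j).2 < j ∧
    ∀ i, conjTab j (perms (conjPar j).1 i) = perms (conjPar j).1 (conjTab (conjPar j).2 i)) := by decide +kernel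

theorem conjTab_injective : ∀ a b : Fin 45, a = b ∨ ∃ i, conjTab a i ≠ conjTab b i := by decide +kernel

theorem range_le_forty : C40 ≤ K40 := by
  rw [C40, Subgroup.closure_le]
  rintro _ ⟨s, rfl⟩
  show permC (genK s) ∈ K40
  rw [gen_words]
  refine list_prod_mem fun x hx => ?_
  obtain ⟨v, -, rfl⟩ := List.mem_map.1 hx
  exact gc_mem v

/-- The model inside the group of forty points. -/
def toK : C576 →* K40 :=
  C576.toPerm.codRestrict K40 fun x => range_le_forty (C576.range_toPerm ▸ ⟨x, rfl⟩)

theorem toK_injective : Function.Injective toK := fun a b h =>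
  C576.perm_injective (congrArg Subtype.val h)

/-- The 2-central involution. -/
def t40 : K40 := toK zM

theorem conjTab_conj : ∀ (n : ℕ) (j : Fin 45), j.val = n →
    ∃ k : K40, ∀ i, conjTab j i = ((k * t40 * k⁻¹ : K40) : P40) i := by
  intro n
  induction n using Nat.strong_induction_on with
  | _ n ih =>
    intro j hj
    rcases conjTab_step j with rfl | ⟨hlt, hstep⟩
    · exact ⟨1, fun i => by rw [conjTab_zero, one_mul, inv_one, mul_one]; rfl⟩
    · obtain ⟨k, hk⟩ := ih _ (show (conjPar j).2.val < n from hj ▸ (hlt : (conjPar j).2.val < j.val))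
        (conjPar j).2 rfl
      refine ⟨⟨gc (conjPar j).1, gc_mem _⟩ * k, fun i => ?_⟩
      have h1 := hstep ((gc (conjPar j).1)⁻¹ i)
      rw [hk, show perms (conjPar j).1 ((gc (conjPar j).1)⁻¹ i) = i from Equiv.apply_symm_apply (gc _) i] at h1
      rw [h1, mul_inv_rev]
      rfl

theorem card_cent_t40 : Nat.card (centralizer ({t40} : Set K40)) = 576 := by
  classical
  haveI := Fintype.ofFinite K40
  have h45 : 45 ≤ ({u : K40 | IsConj t40 u} : Finset K40).card := by
    choose k hk using fun j : Fin 45 => conjTab_conj j.val j rfl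
    have hinj : Function.Injective fun j : Fin 45 => k j * t40 * (k j)⁻¹ := fun a b e => by
      rcases conjTab_injective a b with h | ⟨i, hi⟩
      · exact h
      · exact absurd (by rw [hk, hk]; exact congrArg (fun x : K40 => (x : P40) i) e) hi
    have hsub : (Finset.univ : Finset (Fin 45)).image (fun j => k j * t40 * (k j)⁻¹) ⊆
        ({u : K40 | IsConj t40 u} : Finset K40) := by
      intro u hu
      obtain ⟨j, -, rfl⟩ := Finset.mem_image.1 hu
      exact Finset.mem_filter.2 ⟨Finset.mem_univ _, isConj_iff.2 ⟨k j, rfl⟩⟩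
    have := Finset.card_le_card hsub
    rwa [Finset.card_image_of_injective _ hinj, Finset.card_univ, Fintype.card_fin] at this
  have hle : toK.range ≤ centralizer ({t40} : Set K40) := by
    rintro _ ⟨x, rfl⟩
    exact mem_centralizer_singleton_iff.2 ((zM_central x).map toK).eq
  have hge : 576 ≤ Nat.card (centralizer ({t40} : Set K40)) := by
    have := Subgroup.card_le_of_le hle
    rwa [Nat.card_congr (MonoidHom.ofInjective toK_injective).toEquiv.symm, C576.card_eq] at this
  have h := CfsgLib.Involution.Count.card_eq_class_mul t40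
  rw [card_forty] at h
  refine le_antisymm ?_ hge
  by_contra hcon
  have := Nat.mul_le_mul h45 (Nat.succ_le_of_lt (Nat.lt_of_not_le hcon))
  omega

/-- The embedding of the model in the group of forty points. -/
def S40 : Emb K40 where
  t := t40
  hom := toK
  inj := toK_injective
  range_eq := by
    refine Subgroup.eq_of_le_of_card_ge ?_ ?_
    · rintro _ ⟨x, rfl⟩
      exact mem_centralizer_singleton_iff.2 ((zM_central x).map toK).eq
    · rw [card_cent_t40, Nat.card_congr (MonoidHom.ofInjective toK_injective).toEquiv.symm, C576.card_eq]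
  map_z := rfl

theorem no_index_two_forty (H : Subgroup K40) : H.index ≠ 2 := by
  intro h
  have hmem : ∀ v, (⟨gc v, gc_mem v⟩ : K40) ∈ H := fun v => by
    have h3 : (⟨gc v, gc_mem v⟩ : K40) ^ 3 = 1 := Subtype.ext (Equiv.ext fun i => by
      show gc v (gc v (gc v i)) = i
      exact CfsgLib.Recognition.USixTwoOuter.perms_cube v i)
    have h2 := Subgroup.sq_mem_of_index_two h ((⟨gc v, gc_mem v⟩ : K40) ^ 2)
    rwa [← pow_mul, show 2 * 2 = 3 + 1 from rfl, pow_succ, h3, one_mul] at h2
  have htop : K40 ≤ H.map K40.subtype := by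
    refine (Subgroup.closure_le _).2 ?_
    rintro _ ⟨v, rfl⟩
    exact ⟨⟨gc v, gc_mem v⟩, hmem v, rfl⟩
  have : H = ⊤ := eq_top_iff.2 fun x _ => by
    obtain ⟨y, hy, e⟩ := htop x.2
    exact (Subtype.ext e : y = x) ▸ hy
  rw [this, Subgroup.index_top] at h
  omega

/-- A centraliser of order divisible by 64 is that of a conjugate of `t40`. -/
theorem isConj_of_dvd {t : K40} (ht : orderOf t = 2) (h64 : 64 ∣ Nat.card (centralizer ({t} : Set K40))) :
    IsConj t40 t := by
  haveI := Fintype.ofFinite K40
  obtain ⟨T, hT, h1, h2, h3⟩ := S40.exists_normalised no_index_two_forty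
  have hF : Fused T := ⟨h1, h2, h3⟩
  rcases T.two_classes hF ht with h | h
  · exact (show T.t = t40 from hT) ▸ h
  · exfalso
    have hc : Nat.card (centralizer ({T.B} : Set K40)) = 96 := T.card_cB hF
    rw [← CfsgLib.Char.card_centralizer_eq_of_isConj h, hc] at h64
    omega

/-- Isomorphic groups have isomorphic centralisers. -/
theorem centraliser_equiv {A B : Type*} [Group A] [Group B] (φ : A ≃* B) (x : A) :
    Nonempty (↥(centralizer ({x} : Set A)) ≃* ↥(centralizer ({φ x} : Set B))) := by
  refine ⟨(φ.subgroupMap _).trans (MulEquiv.subgroupCongr ?_)⟩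
  ext y
  simp only [Subgroup.mem_map, mem_centralizer_singleton_iff]
  constructor
  · rintro ⟨a, ha, rfl⟩
    exact (map_mul φ a x).symm.trans ((congrArg φ ha).trans (map_mul φ x a))
  · intro hy
    exact ⟨φ.symm y, φ.injective (by rw [map_mul, map_mul, φ.apply_symm_apply]; exact hy), φ.apply_symm_apply y⟩

theorem centraliser_equiv_of_isConj {A : Type*} [Group A] {x y : A} (h : IsConj x y) :
    Nonempty (↥(centralizer ({x} : Set A)) ≃* ↥(centralizer ({y} : Set A))) := by
  obtain ⟨g, rfl⟩ := isConj_iff.1 h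
  exact centraliser_equiv (MulAut.conj g) x

/-- An isomorphism of the centraliser with the model gives an embedding of the model. -/
theorem exists_emb {G : Type*} [Group G] [Finite G] (t : G) (ht : orderOf t = 2)
    (f : C576 ≃* ↥(centralizer ({t} : Set G))) : ∃ S : Emb G, S.t = t := by
  let c : ↥(centralizer ({t} : Set G)) := ⟨t, mem_centralizer_singleton_iff.2 rfl⟩
  have hz : f.symm c = zM := by
    refine eq_zM_of_central ?_ fun y => ?_
    · rw [MulEquiv.orderOf_eq, ← Subgroup.orderOf_coe]; exact ht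
    · apply f.injective
      rw [map_mul, map_mul, MulEquiv.apply_symm_apply]
      exact Subtype.ext (mem_centralizer_singleton_iff.1 (f y).2)
  refine ⟨{ t := t
            hom := (centralizer ({t} : Set G)).subtype.comp f.toMonoidHom
            inj := Subtype.val_injective.comp f.injective
            range_eq := ?_
            map_z := ?_ }, rfl⟩
  · ext g
    constructor
    · rintro ⟨x, rfl⟩; exact (f x).2
    · intro hg; exact ⟨f.symm ⟨g, hg⟩, by simp⟩
  · rw [← hz]; simp [c]

theorem iso_H45_of_emb {G : Type*} [Group G] [Finite G] (hG : ∀ H : Subgroup G, H.index ≠ 2) (S : Emb G) :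
    Nonempty (G ≃* H45) := by
  obtain ⟨T, -, h1, h2, h3⟩ := S.exists_normalised hG
  exact T.exists_iso ⟨h1, h2, h3⟩

/-- The characterisation of `PSp₄(3)`. -/
theorem iso_psp {G : Type*} [Group G] [Finite G] (hG : ∀ H : Subgroup G, H.index ≠ 2)
    {F : Type*} [Field F] [Fintype F] (hF : Fintype.card F = 3) (U : Sylow 2 (Cfsg.PSp 2 F)) (t₀ : Cfsg.PSp 2 F)
    (ht₀ : orderOf t₀ = 2) (ht₀c : ∀ u ∈ (U : Subgroup (Cfsg.PSp 2 F)), u * t₀ = t₀ * u) (t : G)
    (ht : orderOf t = 2)
    (e : ↥(centralizer ({t} : Set G)) ≃* ↥(centralizer ({t₀} : Set (Cfsg.PSp 2 F)))) :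
    Nonempty (G ≃* Cfsg.PSp 2 F) := by
  haveI : Fact (Nat.Prime 2) := ⟨Nat.prime_two⟩
  obtain ⟨φ⟩ := exists_iso_forty hF
  obtain ⟨e1⟩ := centraliser_equiv φ t₀
  haveI : Finite (Cfsg.PSp 2 F) := Finite.of_equiv _ φ.toEquiv.symm
  have h64 : 64 ∣ Nat.card (centralizer ({φ t₀} : Set K40)) := by
    rw [Nat.card_congr e1.toEquiv.symm]
    have hU : Nat.card (U : Subgroup (Cfsg.PSp 2 F)) = 64 := by
      rw [U.card_eq_multiplicity, Nat.card_congr φ.toEquiv, card_forty,
        show (25920 : ℕ) = 2 ^ 6 * 405 by norm_num, Nat.factorization_mul (by norm_num) (by norm_num),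
        Finsupp.add_apply, Nat.factorization_eq_zero_of_not_dvd (show ¬ 2 ∣ 405 by norm_num),
        Nat.prime_two.factorization_pow, Finsupp.single_eq_same]
      norm_num
    exact hU ▸ Subgroup.card_dvd_of_le fun u hu => mem_centralizer_singleton_iff.2 (ht₀c u hu)
  obtain ⟨e2⟩ := centraliser_equiv_of_isConj (isConj_of_dvd (by rw [MulEquiv.orderOf_eq]; exact ht₀) h64)
  let f40 : C576 ≃* ↥(centralizer ({t40} : Set K40)) :=
    (MonoidHom.ofInjective toK_injective).trans (MulEquiv.subgroupCongr S40.range_eq)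
  obtain ⟨S, -⟩ := exists_emb t ht (((f40.trans e2).trans e1.symm).trans e.symm)
  obtain ⟨i1⟩ := iso_H45_of_emb hG S
  obtain ⟨i2⟩ := iso_H45_of_emb no_index_two_forty S40
  exact ⟨(i1.trans i2.symm).trans φ.symm⟩

end CfsgLib.KGroups.PSpFourThree
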