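import Cfsg.Agent.Lib.KGroups.PSpFourThree.Data

/-!
# A group of order 576 in forty points, by codes
-/

set_option autoImplicit false
set_option maxRecDepth 40000

namespace CfsgLib.KGroups.PSpFourThree

/-- The action of a code. -/
def actN (k q : ℕ) : ℕ := (rowTab.getD (k / 24) 0 >>> (240 * (k % 24) + 6 * q)) % 64

/-- The code with three given images. -/
def codeN (a b c : ℕ) : ℕ := (idxTab.getD a 0 >>> (10 * (40 * b + c))) % 1024

/-- The inverse of a code. -/
def invN (k : ℕ) : ℕ := (invTab >>> (10 * k)) % 1024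

/-- The product of codes. -/
def mulN (k l : ℕ) : ℕ := codeN (actN k (actN l 2)) (actN k (actN l 22)) (actN k (actN l 0))

/-- The codes of the generators and of their inverses. -/
def genL : List ℕ := [137, 64, invN 137, invN 64]

theorem chk_inv : ((List.range 576).all fun k => Nat.blt (invN k) 576 &&
    Nat.beq (codeN (actN k 2) (actN k 22) (actN k 0)) k &&
      (List.range 40).all fun q => Nat.blt (actN k q) 40 && Nat.beq (actN (invN k) (actN k q)) q &&
        Nat.beq (actN k (actN (invN k) q)) q) = true := by decide +kernel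

theorem chk_gen : (genL.all fun g => Nat.blt g 576 && (List.range 576).all fun k => Nat.blt (mulN g k) 576 &&
    (List.range 40).all fun q => Nat.beq (actN (mulN g k) q) (actN g (actN k q))) = true := by decide +kernel

theorem invN_lt {k : ℕ} (hk : k < 576) : invN k < 576 := by
  have h := List.all_eq_true.1 chk_inv k (List.mem_range.2 hk)
  simp only [Bool.and_eq_true] at h
  exact Nat.le_of_ble_eq_true h.1.1

theorem codeN_actN {k : ℕ} (hk : k < 576) : codeN (actN k 2) (actN k 22) (actN k 0) = k := by
  have h := List.all_eq_true.1 chk_inv k (List.mem_range.2 hk)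
  simp only [Bool.and_eq_true] at h
  exact Nat.eq_of_beq_eq_true h.1.2

theorem actN_spec {k q : ℕ} (hk : k < 576) (hq : q < 40) :
    actN k q < 40 ∧ actN (invN k) (actN k q) = q ∧ actN k (actN (invN k) q) = q := by
  have h := List.all_eq_true.1 chk_inv k (List.mem_range.2 hk)
  simp only [Bool.and_eq_true, List.all_eq_true, List.mem_range] at h
  have h' := h.2 q hq
  exact ⟨Nat.le_of_ble_eq_true h'.1.1, Nat.eq_of_beq_eq_true h'.1.2, Nat.eq_of_beq_eq_true h'.2⟩

theorem gen_spec {g k : ℕ} (hg : g ∈ genL) (hk : k < 576) :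
    g < 576 ∧ mulN g k < 576 ∧ ∀ q < 40, actN (mulN g k) q = actN g (actN k q) := by
  have h := List.all_eq_true.1 chk_gen g hg
  simp only [Bool.and_eq_true, List.all_eq_true, List.mem_range] at h
  have h' := h.2 k hk
  exact ⟨Nat.le_of_ble_eq_true h.1, Nat.le_of_ble_eq_true h'.1,
    fun q hq => Nat.eq_of_beq_eq_true (h'.2 q hq)⟩

/-- The permutation of a code. -/
def permC (k : Fin 576) : Equiv.Perm (Fin 40) where
  toFun q := ⟨actN k q, (actN_spec k.2 q.2).1⟩
  invFun q := ⟨actN (invN k) q, (actN_spec (invN_lt k.2) q.2).1⟩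
  left_inv q := Fin.ext (actN_spec k.2 q.2).2.1
  right_inv q := Fin.ext (actN_spec k.2 q.2).2.2

theorem permC_apply (k : Fin 576) (q : Fin 40) : (permC k q).val = actN k q := rfl

theorem permC_injective : Function.Injective permC := fun a b h => by
  have e : ∀ q : Fin 40, actN a q = actN b q := fun q => congrArg (fun f => (f q).val) h
  refine Fin.ext ?_
  rw [← codeN_actN a.2, ← codeN_actN b.2, show actN a 2 = _ from e 2, show actN a 22 = _ from e 22,
    show actN a 0 = _ from e 0]
  rfl

theorem permC_zero : permC 0 = 1 := by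
  refine Equiv.ext fun q => Fin.ext ?_
  revert q
  decide +kernel

/-- The two generators, as codes. -/
def genK : Fin 2 → Fin 576 := ![137, 64]

theorem genK_mem (s : Fin 2) : (genK s).val ∈ genL ∧ invN (genK s) ∈ genL := by
  revert s
  decide +kernel

/-- The subgroup generated by the two generators. -/
def C40 : Subgroup (Equiv.Perm (Fin 40)) := Subgroup.closure (Set.range fun s => permC (genK s))

theorem permC_gen_mul {g : Fin 576} (hg : g.val ∈ genL) (k : Fin 576) :
    permC g * permC k = permC ⟨mulN g k, (gen_spec hg k.2).2.1⟩ :=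
  Equiv.ext fun q => Fin.ext ((gen_spec hg k.2).2.2 q q.2).symm

theorem permC_inv (k : Fin 576) : (permC k)⁻¹ = permC ⟨invN k, invN_lt k.2⟩ :=
  Equiv.ext fun _ => rfl

theorem exists_code {p : Equiv.Perm (Fin 40)} (hp : p ∈ C40) : ∃ k, p = permC k := by
  induction hp using Subgroup.closure_induction_left with
  | one => exact ⟨0, permC_zero.symm⟩
  | mul_left x hx y hy ih =>
    obtain ⟨s, rfl⟩ := hx
    obtain ⟨k, rfl⟩ := ih
    exact ⟨_, permC_gen_mul (genK_mem s).1 k⟩
  | inv_mul_cancel x hx y hy ih =>
    obtain ⟨s, rfl⟩ := hx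
    obtain ⟨k, rfl⟩ := ih
    rw [permC_inv]
    exact ⟨_, permC_gen_mul (g := ⟨invN (genK s), invN_lt (genK s).2⟩) (genK_mem s).2 k⟩

/-- The code of a packed word. -/
def wordCode : ℕ → ℕ → ℕ
  | 0, _ => 0
  | n + 1, w => if w ≤ 1 then 0 else mulN (if w % 2 = 0 then 137 else 64) (wordCode n (w / 2))

theorem word_check : ((List.range 576).all fun k =>
    Nat.beq (wordCode 32 ((wordTab >>> (32 * k)) % 4294967296)) k) = true := by decide +kernel

theorem word_mem : ∀ n w, ∃ h : wordCode n w < 576, permC ⟨wordCode n w, h⟩ ∈ C40 := by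
  intro n
  induction n with
  | zero => exact fun w => ⟨(by norm_num : (0 : ℕ) < 576), permC_zero ▸ C40.one_mem⟩
  | succ n ih =>
    intro w
    by_cases hw : w ≤ 1
    · have e : wordCode (n + 1) w = 0 := by rw [wordCode, if_pos hw]
      refine ⟨by omega, ?_⟩
      simp only [e]
      exact permC_zero ▸ C40.one_mem
    · obtain ⟨h, hm⟩ := ih (w / 2)
      obtain ⟨s, hs⟩ : ∃ s : Fin 2, (genK s).val = if w % 2 = 0 then 137 else 64 := by
        by_cases h2 : w % 2 = 0
        · exact ⟨0, by rw [if_pos h2]; rfl⟩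
        · exact ⟨1, by rw [if_neg h2]; rfl⟩
      have e : wordCode (n + 1) w = mulN (genK s) (wordCode n (w / 2)) := by rw [wordCode, if_neg hw, hs]
      refine ⟨e ▸ (gen_spec (genK_mem s).1 h).2.1, ?_⟩
      simp only [e]
      exact permC_gen_mul (genK_mem s).1 ⟨_, h⟩ ▸ C40.mul_mem (Subgroup.subset_closure ⟨s, rfl⟩) hm

theorem permC_mem (k : Fin 576) : permC k ∈ C40 := by
  obtain ⟨h, hm⟩ := word_mem 32 ((wordTab >>> (32 * k.val)) % 4294967296)
  rwa [show (⟨_, h⟩ : Fin 576) = k from
    Fin.ext (Nat.eq_of_beq_eq_true (List.all_eq_true.1 word_check k (List.mem_range.2 k.2)))] at hm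

theorem mul_spec {k l : ℕ} (hk : k < 576) (hl : l < 576) :
    mulN k l < 576 ∧ ∀ q < 40, actN (mulN k l) q = actN k (actN l q) := by
  obtain ⟨m, hm⟩ := exists_code (C40.mul_mem (permC_mem ⟨k, hk⟩) (permC_mem ⟨l, hl⟩))
  have e : ∀ q : Fin 40, actN k (actN l q) = actN m q := fun q => congrArg (fun f => (f q).val) hm
  have hm' : mulN k l = m.val := by
    rw [mulN, show actN k (actN l 2) = _ from e 2, show actN k (actN l 22) = _ from e 22,
      show actN k (actN l 0) = _ from e 0]
    exact codeN_actN m.2
  exact ⟨hm' ▸ m.2, fun q hq => by rw [hm']; exact (e ⟨q, hq⟩).symm⟩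

/-- The group of order 576. -/
structure C576 where
  /-- The code. -/
  code : Fin 576
  deriving DecidableEq

namespace C576

/-- The bijection with the codes. -/
def equivFin : C576 ≃ Fin 576 := ⟨C576.code, C576.mk, fun _ => rfl, fun _ => rfl⟩

instance : Fintype C576 := Fintype.ofEquiv (Fin 576) equivFin.symm

theorem card_eq : Nat.card C576 = 576 := by rw [Nat.card_congr equivFin, Nat.card_fin]

/-- The permutation of forty points. -/
def perm (a : C576) : Equiv.Perm (Fin 40) := permC a.code

theorem perm_injective : Function.Injective perm := fun _ _ h => equivFin.injective (permC_injective h)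

instance : Mul C576 := ⟨fun a b => ⟨⟨mulN a.code.val b.code.val, (mul_spec a.code.2 b.code.2).1⟩⟩⟩
instance : One C576 := ⟨⟨0⟩⟩
instance : Inv C576 := ⟨fun a => ⟨⟨invN a.code.val, invN_lt a.code.2⟩⟩⟩

theorem perm_mul (a b : C576) : perm (a * b) = perm a * perm b :=
  Equiv.ext fun q => Fin.ext ((mul_spec a.code.2 b.code.2).2 q q.2)

theorem perm_one : perm 1 = 1 := permC_zero

theorem perm_inv (a : C576) : perm a⁻¹ = (perm a)⁻¹ := (permC_inv a.code).symm

instance : Group C576 :=
  Group.ofLeftAxioms
    (fun a b c => perm_injective (by rw [perm_mul, perm_mul, perm_mul, perm_mul, mul_assoc]))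
    (fun a => perm_injective (by rw [perm_mul, perm_one, one_mul]))
    (fun a => perm_injective (by rw [perm_mul, perm_inv, perm_one, inv_mul_cancel]))

/-- The representation on forty points. -/
def toPerm : C576 →* Equiv.Perm (Fin 40) where
  toFun := perm
  map_one' := perm_one
  map_mul' := perm_mul

theorem range_toPerm : toPerm.range = C40 := by
  ext p
  constructor
  · rintro ⟨a, rfl⟩
    exact permC_mem a.code
  · intro hp
    obtain ⟨k, rfl⟩ := exists_code hp
    exact ⟨⟨k⟩, rfl⟩

end C576

end CfsgLib.KGroups.PSpFourThree
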