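import Mathlib

/-!
Tables for forty-five points acted on by the group of order 576 and one further involution.
-/

set_option autoImplicit false
set_option maxRecDepth 40000

namespace CfsgLib.KGroups.PSpFourThree

/-- The stabiliser of the base far point. -/
def maskM0 : ℕ := 0x1ff0000000000000001ff

/-- Its Sylow 3-subgroup. -/
def maskP9 : ℕ := 0x1ff

/-- The near points. -/
def nearL : List ℕ := [72, 77, 79, 387, 408, 429, 460, 485, 499, 533, 553, 575]

/-- Representatives of the far points. -/
def repL : List ℕ := [0, 9, 18, 27, 36, 45, 54, 63, 90, 99, 108, 117, 126, 135, 162, 171, 180, 189, 198, 207, 234, 243, 252, 261, 270, 279, 306, 315, 324, 333, 342, 351]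

/-- The far point of a code, packed. -/
def cosTab : ℕ := 0x7df7df7df7df7de79e79e79e79e6596596596596586186186186184d34d34d34d34d24924924924921c71c71c71c71c618618618618675d75d75d75d75c71c71c71c71c5d75d75d75d75d65965965965964514514514514504104104104101451451451451441041041041046db6db6db6db6da69a69a69a69a5555555555555545145145145143cf3cf3cf3cf3ce38e38e38e38e0c30c30c30c30c20820820820827df7df7df7df7de79e79e79e79e75d75d75d75d75c71c71c71c71c6db6db6db6db6da69a69a69a69a34d34d34d34d34c30c30c30c30c6596596596596586186186186185d75d75d75d75d65965965965965555555555555545145145145142cb2cb2cb2cb2ca28a28a28a28a4d34d34d34d34d24924924924924514514514514504104104104103cf3cf3cf3cf3ce38e38e38e38e24924924924924820820820820834d34d34d34d34c30c30c30c30c2cb2cb2cb2cb2ca28a28a28a28a2492492492492482082082082080410410410410400000000000001c71c71c71c71c61861861861861451451451451441041041041040c30c30c30c30c2082082082082041041041041040000000000000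

/-- The further involution on the points. -/
def sigL : List ℕ := [14, 1, 2, 3, 28, 34, 40, 30, 36, 42, 32, 38, 44, 13, 0, 18, 19, 20, 15, 16, 17, 24, 25, 26, 21, 22, 23, 27, 4, 29, 7, 31, 10, 33, 5, 35, 8, 37, 11, 39, 6, 41, 9, 43, 12]

/-- The derivation of its action. -/
def stepL : List (ℕ × ℕ) := [(408, 28), (429, 28), (460, 28), (533, 28), (485, 30), (499, 30), (553, 32), (575, 32), (485, 34), (553, 34), (499, 40), (575, 40)]

end CfsgLib.KGroups.PSpFourThree
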